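/-
The transpositions of Fi23 in the centraliser of one of them, seen in Fi22.
-/
import Cfsg.Agent.Lib.CosetEnum.Fi23Class.Double
import Cfsg.Agent.Lib.CosetEnum.Fi23Aut.Main
import Cfsg.Agent.Lib.CosetEnum.Fi22Octet.Main

set_option autoImplicit false
set_option maxRecDepth 1000000

namespace CfsgThreeTrans.M24.Unique

open CfsgLib.CosetEnum

theorem commute_of_sq {M : Type*} [Group M] {a b : M} (ha : a * a = 1) (hb : b * b = 1) (h : (a * b) ^ 2 = 1) :
    Commute a b := by
  rw [pow_two] at h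
  show a * b = b * a
  calc a * b = (a * b)⁻¹ := eq_inv_of_mul_eq_one_left h
    _ = b * a := by rw [mul_inv_rev, inv_eq_of_mul_eq_one_right ha, inv_eq_of_mul_eq_one_right hb]

/-- The transposition at the base point. -/
noncomputable abbrev tz : presFi23.Grp := Fi23Aut.tz

/-- The class of transpositions. -/
noncomputable abbrev C23 : Set presFi23.Grp := conjugatesOf tz

/-- The element of a word. -/
noncomputable abbrev W23 (w : List ℕ) : presFi23.Grp := (w.map presFi23.σ).prod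

theorem tz_eq : tz = Fi23Class.tp := rfl

theorem σ_mem23 {x : ℕ} (hx : x < 10) : presFi23.σ x ∈ C23 :=
  Fi31671.cert.isPt_mem Fi31671.hlt (Fi23Aut.pt_gen x hx)

theorem σ7_class : conjugatesOf (presFi23.σ 7) = C23 :=
  ((IsConj.conjugatesOf_eq (σ_mem23 (x := 7) (by norm_num)))).symm

theorem mem_sub23 {g : presFi23.Grp} : g ∈ Fi31671.cert.sub ↔ Commute g tz := by
  rw [← (Fi23Class.facts).1, Subgroup.mem_centralizer_singleton_iff]
  rfl

theorem tz_sub : tz ∈ Fi31671.cert.sub := mem_sub23.mpr (Commute.refl _)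

theorem sub_word (w : List ℕ) (hw : ∀ x ∈ w, x ∈ [0, 1, 2, 3, 4, 5, 6, 8, 9]) : W23 w ∈ Fi31671.cert.sub := by
  refine list_prod_mem fun v hv => ?_
  obtain ⟨x, hx, rfl⟩ := List.mem_map.mp hv
  exact Subgroup.subset_closure ⟨[x],
    (show ∀ x ∈ [0, 1, 2, 3, 4, 5, 6, 8, 9], [x] ∈ Fi31671.hw by decide) x (hw x hx), by simp⟩

/-- The transpositions centralising the base one are conjugates of the first generator in its centraliser. -/
theorem near_cases {y : presFi23.Grp} (hy : y ∈ C23) (hne : y ≠ tz) (hc : Commute y tz) :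
    ∃ h ∈ Fi31671.cert.sub, y = h * presFi23.σ 0 * h⁻¹ := by
  obtain ⟨d, hd⟩ := Fi31671.cert.isPt_of_mem Fi31671.hlt hy
  have hfix : Fi31671.cert.hom Fi31671.hlt tz d = d :=
    (Fi31671.cert.isPt_fix Fi31671.hlt Fi23Aut.stabIsCent hd tz).mpr hc.eq.symm
  obtain ⟨h, hh, p, hp, hhp⟩ := Fi31671.cert.exists_root Fi31671.hlt Fi23Aut.hid Fi31671.hhw Fi31671.orb
    Fi31671.roots Fi31671.hwR (by decide +kernel) Fi31671.orbs d
  have hpf : Fi31671.cert.hom Fi31671.hlt tz p = p := by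
    have e : tz = h⁻¹ * tz * h := by
      have := (mem_sub23.mp hh).eq
      calc tz = h⁻¹ * (h * tz) := by group
        _ = h⁻¹ * (tz * h) := by rw [this]
        _ = _ := by group
    rw [e, map_mul, Equiv.Perm.mul_apply, hhp, map_mul, Equiv.Perm.mul_apply, hfix, ← hhp, map_inv]
    exact Equiv.symm_apply_apply _ _
  have hroots : ∀ l : ℕ, Fi31671.roots.getD l 0 = 0 ∨
      runT Fi31671.table 10 Fi23Class.zw.reverse (Fi31671.roots.getD l 0) ≠ Fi31671.roots.getD l 0 ∨
      l = 2 := by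
    intro l
    rcases l with _ | _ | _ | l
    · exact Or.inl (by decide +kernel)
    · exact Or.inr (Or.inl (by decide +kernel))
    · exact Or.inr (Or.inr rfl)
    · exact Or.inl (List.getD_eq_default _ _ (show Fi31671.roots.length ≤ l + 1 + 1 + 1 by
        rw [show Fi31671.roots.length = 3 by decide +kernel]; omega))
  rcases hroots (orbLab Fi31671.orb (d : ℕ)) with h0 | h1 | h2
  · refine absurd ?_ hne
    rw [h0] at hp
    have hd0 : d = ⟨0, Fi31671.cert.hn⟩ := by
      rw [← hhp, show p = ⟨0, Fi31671.cert.hn⟩ from Fin.ext hp]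
      exact (Fi23Aut.stabIsCent h).mpr (mem_sub23.mp hh).eq
    exact Fi31671.cert.isPt_unique Fi31671.hlt Fi23Aut.stabIsCent (hd0 ▸ hd) (Fi31671.cert.isPt_base Fi31671.hlt)
  · refine absurd ?_ h1
    have h := Fi31671.cert.hom_word_run' Fi31671.hlt Fi23Aut.hid Fi23Class.zw Fi23Aut.zw_lt p
    rw [show Fi31671.cert.hom Fi31671.hlt (Fi23Class.zw.map presFi23.σ).prod p = p from hpf, hp] at h
    exact h.symm
  · obtain ⟨h', hh', p', hp', hhp'⟩ := Fi31671.cert.exists_root Fi31671.hlt Fi23Aut.hid Fi31671.hhw Fi31671.orb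
      Fi31671.roots Fi31671.hwR (by decide +kernel) Fi31671.orbs ⟨Fi23Aut.qOf 0, Fi23Aut.qOf_lt 0 (by norm_num)⟩
    have hlab : orbLab Fi31671.orb (Fi23Aut.qOf 0) = 2 := Nat.eq_of_beq_eq_true (by decide +kernel)
    have hpp : p = p' := Fin.ext (by rw [hp, hp', h2]; simp only [hlab])
    refine ⟨h * h'⁻¹, mul_mem hh (inv_mem hh'), ?_⟩
    have hd2 := Fi31671.cert.isPt_conj Fi31671.hlt (Fi23Aut.pt_gen 0 (by norm_num)) (h * h'⁻¹)
    have e : Fi31671.cert.hom Fi31671.hlt (h * h'⁻¹) ⟨Fi23Aut.qOf 0, Fi23Aut.qOf_lt 0 (by norm_num)⟩ = d := by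
      rw [map_mul, Equiv.Perm.mul_apply, ← hhp', map_inv]
      rw [show (Fi31671.cert.hom Fi31671.hlt h')⁻¹ (Fi31671.cert.hom Fi31671.hlt h' p') = p' from
        Equiv.symm_apply_apply _ _, ← hpp, hhp]
    exact Fi31671.cert.isPt_unique Fi31671.hlt Fi23Aut.stabIsCent hd (e ▸ hd2)

/-- The elements killed modulo the centre. -/
noncomputable def Z23 : Subgroup ↥Fi31671.cert.sub := Subgroup.zpowers Fi23Class.th

instance : Z23.Normal := ⟨fun a ha g => by
  rw [Subgroup.mem_center_iff.mp (Subgroup.zpowers_le.mpr Fi23Class.th_center ha) g, mul_inv_cancel_right]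
  exact ha⟩

/-- Fi22 inside the centraliser modulo the centre. -/
noncomputable def up : presFi22.Grp →* ↥Fi31671.cert.sub ⧸ Z23 :=
  PresentedGroup.toGroup (f := (fun x => QuotientGroup.mk' Z23 (Fi23Class.genH x)) ∘ presFi22.idx) <| by
    refine presFi22.lift_rel (τ := fun x => QuotientGroup.mk' Z23 (Fi23Class.genH x))
      (fun x => by rw [← map_mul, Fi23Class.genH_sq, map_one]) fun w hw => ?_
    have e : (w.map fun x => QuotientGroup.mk' Z23 (Fi23Class.genH x)).prod =
        QuotientGroup.mk' Z23 (w.map Fi23Class.genH).prod := by rw [map_list_prod, List.map_map]; rfl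
    rw [e, QuotientGroup.mk'_apply, QuotientGroup.eq_one_iff]
    rcases Fi23Class.emb_rels w hw with h | h
    · rw [show (w.map Fi23Class.genH).prod = 1 from Subtype.ext (by
        rw [Fi23Class.genH_prod, presFi23.rels_one h]; rfl)]
      exact one_mem _
    · rw [show (w.map Fi23Class.genH).prod = Fi23Class.th from Subtype.ext (by
        rw [Fi23Class.genH_prod, h, Fi23Class.th_val]; rfl)]
      exact Subgroup.mem_zpowers _

theorem up_σ {x : ℕ} (hx : x < 9) : up (presFi22.σ x) = QuotientGroup.mk (Fi23Class.genH x) := by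
  rw [Pres.σ, if_pos hx]
  refine (PresentedGroup.toGroup.of _).trans ?_
  show QuotientGroup.mk' Z23 (Fi23Class.genH (presFi22.idx (presFi22.gen x))) = _
  rw [Fi22Class.hid x hx]
  rfl

theorem sigma_zero_ne_tz : presFi23.σ 0 ≠ tz := fun e => by
  have h := (Fi31671.cert.isPt_unique' Fi31671.hlt Fi23Aut.stabIsCent (Fi23Aut.pt_gen 0 (by norm_num))
    ((congrArg (fun v => Fi31671.cert.IsPt Fi31671.hlt tz v ⟨0, Fi31671.cert.hn⟩) e).mpr (Fi31671.cert.isPt_base Fi31671.hlt)))
  exact absurd (congrArg Fin.val h) (show Fi23Aut.qOf 0 ≠ 0 by decide)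

theorem sigma_zero_ne_one : presFi23.σ 0 ≠ 1 := fun e => by
  have h := (Fi23Class.facts).2.1.1.1 _ (σ_mem23 (x := 0) (by norm_num))
  rw [e, orderOf_one] at h
  omega

theorem up_bij : Function.Bijective up := by
  haveI : IsSimpleGroup presFi22.Grp := Cfsg.Agent.S1696.result.1
  refine ⟨(MonoidHom.ker_eq_bot_iff _).mp ?_, ?_⟩
  · refine (inferInstance : up.ker.Normal).eq_bot_or_eq_top.resolve_right fun h => ?_
    have h0 : up (presFi22.σ 0) = 1 := MonoidHom.mem_ker.mp (h ▸ Subgroup.mem_top _)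
    rw [up_σ (by norm_num), QuotientGroup.eq_one_iff] at h0
    obtain ⟨m, hm⟩ := h0
    have hsq : Fi23Class.th * Fi23Class.th = 1 := Subtype.ext (by
      rw [Subgroup.coe_mul, Fi23Class.th_val]; exact Fi23Aut.t_sq)
    have hm' : Fi23Class.th ^ m = Fi23Class.genH 0 := hm
    rcases Int.even_or_odd' m with ⟨q, rfl | rfl⟩
    · rw [zpow_mul, zpow_two, hsq, one_zpow] at hm'
      exact sigma_zero_ne_one (congrArg Subtype.val hm').symm
    · rw [zpow_add, zpow_mul, zpow_two, hsq, one_zpow, one_mul, zpow_one] at hm'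
      have e := congrArg Subtype.val hm'
      rw [Fi23Class.th_val] at e
      exact sigma_zero_ne_tz e.symm
  · rw [← MonoidHom.range_eq_top, eq_top_iff, ← Subgroup.map_top_of_surjective (QuotientGroup.mk' Z23)
      (QuotientGroup.mk'_surjective Z23), ← Fi23Class.genH_top, MonoidHom.map_closure, Subgroup.closure_le]
    rintro _ ⟨_, ⟨x, hx, rfl⟩, rfl⟩
    exact ⟨presFi22.σ x, up_σ hx⟩

/-- The projection of the centraliser onto Fi22. -/
noncomputable def proj22 : ↥Fi31671.cert.sub →* presFi22.Grp :=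
  (MulEquiv.ofBijective up up_bij).symm.toMonoidHom.comp (QuotientGroup.mk' Z23)

theorem proj22_gen {x : ℕ} (hx : x < 9) : proj22 (Fi23Class.genH x) = presFi22.σ x := by
  show (MulEquiv.ofBijective up up_bij).symm (QuotientGroup.mk' Z23 (Fi23Class.genH x)) = _
  rw [MulEquiv.symm_apply_eq]
  exact (up_σ hx).symm

theorem proj22_surj : Function.Surjective proj22 :=
  (MulEquiv.ofBijective up up_bij).symm.surjective.comp (QuotientGroup.mk'_surjective Z23)

theorem proj22_eq {a b : ↥Fi31671.cert.sub} (h : proj22 a = proj22 b) :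
    (b : presFi23.Grp) = a ∨ (b : presFi23.Grp) = a * tz := by
  have h' : QuotientGroup.mk' Z23 a = QuotientGroup.mk' Z23 b := (MulEquiv.ofBijective up up_bij).symm.injective h
  obtain ⟨m, hm⟩ := QuotientGroup.eq.mp h'
  have hm' : Fi23Class.th ^ m = a⁻¹ * b := hm
  have hsq : Fi23Class.th * Fi23Class.th = 1 := Subtype.ext (by
    rw [Subgroup.coe_mul, Fi23Class.th_val]; exact Fi23Aut.t_sq)
  rcases Int.even_or_odd' m with ⟨q, rfl | rfl⟩
  · left
    rw [zpow_mul, zpow_two, hsq, one_zpow] at hm'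
    rw [show b = a by rw [← mul_inv_cancel_left a b, ← hm', mul_one]]
  · right
    rw [zpow_add, zpow_mul, zpow_two, hsq, one_zpow, one_mul, zpow_one] at hm'
    rw [show b = a * Fi23Class.th by rw [hm', mul_inv_cancel_left], Subgroup.coe_mul, Fi23Class.th_val]
    rfl

/-- The generators of the centraliser as generators of Fi23. -/
theorem emb_lt10 : ∀ x < 9, Fi23Class.emb x < 10 := by decide

theorem genH_near {x : ℕ} (hx : x < 9) : presFi23.σ (Fi23Class.emb x) ≠ tz ∧
    Commute (presFi23.σ (Fi23Class.emb x)) tz := by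
  refine ⟨fun e => ?_, mem_sub23.mp (Fi23Class.gen_mem hx)⟩
  have h := Fi31671.cert.isPt_unique' Fi31671.hlt Fi23Aut.stabIsCent (Fi23Aut.pt_gen _ (emb_lt10 x hx))
    ((congrArg (fun v => Fi31671.cert.IsPt Fi31671.hlt tz v ⟨0, Fi31671.cert.hn⟩) e).mpr (Fi31671.cert.isPt_base Fi31671.hlt))
  have h0 : ∀ x < 9, Fi23Aut.qOf (Fi23Class.emb x) ≠ 0 := by decide
  exact h0 x hx (congrArg Fin.val h)

theorem proj22_class {y : presFi23.Grp} (hy : y ∈ C23) (hne : y ≠ tz) (hc : Commute y tz) :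
    proj22 ⟨y, mem_sub23.mpr hc⟩ ∈ conjugatesOf Fi22Aut.tz := by
  obtain ⟨h, hh, e⟩ := near_cases hy hne hc
  have e' : (⟨y, mem_sub23.mpr hc⟩ : ↥Fi31671.cert.sub) = ⟨h, hh⟩ * Fi23Class.genH 0 * (⟨h, hh⟩)⁻¹ :=
    Subtype.ext e
  refine isConj_iff.mpr ⟨proj22 ⟨h, hh⟩, ?_⟩
  rw [show Fi22Aut.tz = presFi22.σ 0 by simp [Fi22Aut.tz], e', map_mul, map_mul, map_inv, proj22_gen (by norm_num)]

/-- A transposition centralising the base one and different from it. -/
def Near (y : presFi23.Grp) : Prop := y ∈ C23 ∧ y ≠ tz ∧ Commute y tz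

/-- The projection, extended by the trivial value. -/
noncomputable def p22 (y : presFi23.Grp) : presFi22.Grp :=
  open Classical in if h : Commute y tz then proj22 ⟨y, mem_sub23.mpr h⟩ else 1

theorem p22_eq {y : presFi23.Grp} (h : Commute y tz) : p22 y = proj22 ⟨y, mem_sub23.mpr h⟩ := by
  rw [p22, dif_pos h]

theorem p22_class {y : presFi23.Grp} (h : Near y) : p22 y ∈ conjugatesOf Fi22Aut.tz :=
  p22_eq h.2.2 ▸ proj22_class h.1 h.2.1 h.2.2

theorem near_gen {x : ℕ} (hx : x < 9) : Near (presFi23.σ (Fi23Class.emb x)) :=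
  ⟨σ_mem23 (emb_lt10 x hx), (genH_near hx).1, (genH_near hx).2⟩

theorem p22_gen {x : ℕ} (hx : x < 9) : p22 (presFi23.σ (Fi23Class.emb x)) = presFi22.σ x := by
  rw [p22_eq (genH_near hx).2]
  exact proj22_gen hx

theorem p22_cases {a b : presFi23.Grp} (ha : Near a) (hb : Near b) (h : p22 a = p22 b) : b = a ∨ b = a * tz := by
  rw [p22_eq ha.2.2, p22_eq hb.2.2] at h
  exact proj22_eq h

theorem tz_mem : tz ∈ C23 := mem_conjugatesOf_self

theorem inv23 {a : presFi23.Grp} (ha : a ∈ C23) : a * a = 1 := by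
  rw [← pow_two, ← (Fi23Class.facts).2.1.1.1 a ha]
  exact pow_orderOf_eq_one a

theorem p22_commute {a b : presFi23.Grp} (ha : Near a) (hb : Near b) :
    Commute a b → Commute (p22 a) (p22 b) := fun h => by
  rw [p22_eq ha.2.2, p22_eq hb.2.2]
  exact Commute.map (Subtype.ext h.eq) proj22

theorem p22_eq_of_commute {a b : presFi23.Grp} (ha : Near a) (hb : Near b) (hn : ¬ Commute a b)
    (h : Commute (p22 a) (p22 b)) : p22 a = p22 b := by
  rw [p22_eq ha.2.2, p22_eq hb.2.2] at h ⊢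
  set A : ↥Fi31671.cert.sub := ⟨a, mem_sub23.mpr ha.2.2⟩
  set B : ↥Fi31671.cert.sub := ⟨b, mem_sub23.mpr hb.2.2⟩
  have hA : proj22 A * proj22 A = 1 := by rw [← map_mul, show A * A = 1 from Subtype.ext (inv23 ha.1), map_one]
  have hB : proj22 B * proj22 B = 1 := by rw [← map_mul, show B * B = 1 from Subtype.ext (inv23 hb.1), map_one]
  have h3 : (proj22 A * proj22 B) ^ 3 = 1 := by
    rcases (Fi23Class.facts).2.1.1.2 a ha.1 b hb.1 with e | e
    · exact absurd (commute_of_sq (inv23 ha.1) (inv23 hb.1) e) hn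
    · rw [← map_mul, ← map_pow, show (A * B) ^ 3 = 1 from Subtype.ext e, map_one]
  have h2 : (proj22 A * proj22 B) ^ 2 = 1 := by rw [h.mul_pow, pow_two, pow_two, hA, hB, one_mul]
  rw [pow_succ, h2, one_mul] at h3
  rw [eq_inv_of_mul_eq_one_left h3]
  exact inv_eq_of_mul_eq_one_right hB

theorem qOf_inj : ∀ x < 10, ∀ y < 10, Fi23Aut.qOf x = Fi23Aut.qOf y → x = y := by decide

theorem σ_inj {x y : ℕ} (hx : x < 10) (hy : y < 10) (h : presFi23.σ x = presFi23.σ y) : x = y :=
  qOf_inj x hx y hy (congrArg Fin.val (Fi31671.cert.isPt_unique' Fi31671.hlt Fi23Aut.stabIsCent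
    (Fi23Aut.pt_gen x hx) (h ▸ Fi23Aut.pt_gen y hy)))

theorem commute_iff_table {x y : ℕ} (hx : x < 10) (hy : y < 10) :
    Commute (presFi23.σ x) (presFi23.σ y) ↔ Fi31671.table.act 10 (Fi23Aut.qOf y) x = Fi23Aut.qOf y := by
  have h := Fi31671.cert.isPt_fix Fi31671.hlt Fi23Aut.stabIsCent (Fi23Aut.pt_gen y hy) (presFi23.σ x)
  rw [Fin.ext_iff, Fi31671.cert.hom_act Fi31671.hlt Fi23Aut.hid hx] at h
  exact h.symm

theorem seven_table : ∀ x < 9, Nat.beq (Fi31671.table.act 10 (Fi23Aut.qOf (Fi23Class.emb x)) 7)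
    (Fi23Aut.qOf (Fi23Class.emb x)) = !(Nat.beq x 6) := by decide +kernel

theorem seven_commute {x : ℕ} (hx : x < 9) :
    Commute (presFi23.σ 7) (presFi23.σ (Fi23Class.emb x)) ↔ x ≠ 6 := by
  rw [commute_iff_table (by norm_num) (emb_lt10 x hx)]
  have h := seven_table x hx
  constructor
  · intro e e6
    subst e6
    rw [e, Nat.beq_refl] at h
    exact absurd h (by decide)
  · intro hne
    rw [show Nat.beq x 6 = false from Bool.eq_false_iff.mpr fun e => hne (Nat.eq_of_beq_eq_true e)] at h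
    exact Nat.eq_of_beq_eq_true h

theorem seven_moves : Fi23Class.zf (Fi23Aut.qOf 7) ≠ Fi23Aut.qOf 7 := Nat.ne_of_beq_eq_false (by decide +kernel)

theorem seven_far : ¬ Commute (presFi23.σ 7) tz := fun h => by
  have e := (Fi31671.cert.isPt_fix Fi31671.hlt Fi23Aut.stabIsCent (Fi23Aut.pt_gen 7 (by norm_num)) tz).mpr h.eq.symm
  exact seven_moves ((Fi23Aut.real_t _).symm.trans (congrArg Fin.val e))

end CfsgThreeTrans.M24.Unique
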