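/-
The transpositions next to the base one in type M(24), numbered by those of Fi23.
-/
import Cfsg.Agent.Lib.ThreeTrans.M24.Facts
import Cfsg.Agent.Lib.ThreeTrans.M23.Unique
import Cfsg.Agent.Lib.ThreeTrans.M24.Unique.Fi23Part

set_option autoImplicit false
set_option maxRecDepth 100000
set_option linter.unusedSectionVars false

namespace CfsgThreeTrans.M24.Unique

open Cfsg CfsgLib CfsgLib.CosetEnum
open CfsgThreeTrans.M23 (Hs Qt qt Et bar bar_eq)

universe u

variable {G : Type u} [Group G] [Finite G] {D : Set G}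

/-- The data at one transposition together with the presented group as the partner group modulo its centre. -/
structure Model (D : Set G) where
  hG : IsThreeTranspositionGroup D
  hp : IsPrimitiveUnderConj D
  hZ : Subgroup.center G = ⊥
  B : Base D
  ψ : presFi23.Grp ≃* Qt D B.t
  hψ : ψ '' C23 = Et D B.t

theorem exists_model (hG : IsThreeTranspositionGroup D) (hp : IsPrimitiveUnderConj D)
    (hZ : Subgroup.center G = ⊥) (h24 : IsOfTypeM24 G D) : Nonempty (Model D) := by
  obtain ⟨B⟩ := M24.exists_base (cls_of_group_prim hG hp) hp h24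
  obtain ⟨e, he⟩ := M23.Unique.exists_iso (cls_group B.cls) B.prim B.ty
  rw [σ7_class] at he
  exact ⟨⟨hG, hp, hZ, B, e, he⟩⟩

namespace Model

variable (m : Model D)
include m

theorem cls : IsThreeTranspositionClass D := cls_of_group_prim m.hG m.hp

/-- The base transposition. -/
abbrev t : G := m.B.t

/-- The lift of a transposition of Fi23. -/
noncomputable def L (x : presFi23.Grp) : G := Function.invFunOn (bar D m.B.t) (Ds D m.B.t) (m.ψ x)

theorem L_spec {x : presFi23.Grp} (hx : x ∈ C23) : m.L x ∈ Ds D m.t ∧ bar D m.t (m.L x) = m.ψ x := by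
  have h : m.ψ x ∈ bar D m.B.t '' Ds D m.B.t := by
    rw [bar_image m.cls m.B, ← m.hψ]
    exact ⟨x, hx, rfl⟩
  obtain ⟨d, hd, e⟩ := h
  exact ⟨Function.invFunOn_mem ⟨d, hd, e⟩, Function.invFunOn_eq ⟨d, hd, e⟩⟩

theorem L_mem {x : presFi23.Grp} (hx : x ∈ C23) : m.L x ∈ D := (m.L_spec hx).1.1

theorem L_ne {x : presFi23.Grp} (hx : x ∈ C23) : m.L x ≠ m.t := (m.L_spec hx).1.2.1

theorem L_comm_t {x : presFi23.Grp} (hx : x ∈ C23) : Commute m.t (m.L x) := (m.L_spec hx).1.2.2

theorem L_eq {x : presFi23.Grp} (hx : x ∈ C23) {d : G} (hd : d ∈ Ds D m.t) (h : bar D m.t d = m.ψ x) :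
    m.L x = d :=
  bar_inj m.cls m.B (m.L_spec hx).1 hd ((m.L_spec hx).2.trans h.symm)

theorem L_inj {x y : presFi23.Grp} (hx : x ∈ C23) (hy : y ∈ C23) (h : m.L x = m.L y) : x = y :=
  m.ψ.injective (by rw [← (m.L_spec hx).2, ← (m.L_spec hy).2, h])

theorem L_commute {x y : presFi23.Grp} (hx : x ∈ C23) (hy : y ∈ C23) :
    Commute (m.L x) (m.L y) ↔ Commute x y := by
  rw [← bar_commute m.cls m.B (m.L_spec hx).1 (m.L_spec hy).1, (m.L_spec hx).2, (m.L_spec hy).2]
  exact ⟨fun h => by simpa using h.map m.ψ.symm, fun h => h.map m.ψ⟩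

theorem L_surj {d : G} (hd : d ∈ Ds D m.t) : ∃ x ∈ C23, m.L x = d := by
  have h : bar D m.t d ∈ m.ψ '' C23 := m.hψ ▸ bar_mem m.cls m.B hd
  obtain ⟨x, hx, e⟩ := h
  exact ⟨x, hx, m.L_eq hx hd e.symm⟩

theorem conj_Ds {h d : G} (hh : Commute h m.t) (hd : d ∈ Ds D m.t) : h * d * h⁻¹ ∈ Ds D m.t := by
  have e : h * m.t * h⁻¹ = m.t := by rw [hh.eq, mul_inv_cancel_right]
  have h' := cj_Ds m.cls h m.t
  rw [e] at h'
  exact h'.subset ⟨d, hd, rfl⟩

theorem one_bar : bar D m.t (1 : G) = 1 := by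
  rw [show (1 : G) = ((1 : ↥(Hs D m.t)) : G) from rfl, bar_eq, map_one]

/-- A member of the partner group over an element of Fi23. -/
def Over (h : G) (g : presFi23.Grp) : Prop := h ∈ Hs D m.t ∧ bar D m.t h = m.ψ g

theorem exists_over (g : presFi23.Grp) : ∃ h : G, m.Over h g := by
  obtain ⟨X, hX⟩ := QuotientGroup.mk'_surjective _ (m.ψ g)
  exact ⟨X, X.2, (bar_eq X).trans hX⟩

theorem L_conj {h : G} {g x : presFi23.Grp} (hh : m.Over h g) (hx : x ∈ C23) :
    h * m.L x * h⁻¹ = m.L (g * x * g⁻¹) := by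
  have hgx : g * x * g⁻¹ ∈ C23 := IsConj.trans hx (isConj_iff.mpr ⟨g, rfl⟩)
  refine (m.L_eq hgx (m.conj_Ds (closure_Ds_commute hh.1) (m.L_spec hx).1) ?_).symm
  have hLx : m.L x ∈ Hs D m.t := Subgroup.subset_closure (m.L_spec hx).1
  have hinv : bar D m.t h⁻¹ = (bar D m.t h)⁻¹ := by
    refine eq_inv_of_mul_eq_one_left ?_
    rw [← bar_mul m.cls m.B (inv_mem hh.1) hh.1, inv_mul_cancel, m.one_bar]
  rw [bar_mul m.cls m.B (mul_mem hh.1 hLx) (inv_mem hh.1), bar_mul m.cls m.B hh.1 hLx, hinv, hh.2,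
    (m.L_spec hx).2, map_mul, map_mul, map_inv]

/-- The lift of a word in the generators of Fi23. -/
noncomputable def Lw (w : List ℕ) : G := (w.map fun x => m.L (presFi23.σ x)).prod

theorem over_word : ∀ w : List ℕ, (∀ x ∈ w, x < 10) → m.Over (m.Lw w) (W23 w) := by
  intro w
  induction w with
  | nil =>
    intro _
    exact ⟨one_mem _, by rw [show W23 [] = 1 from rfl, map_one]; exact m.one_bar⟩
  | cons a w ih =>
    intro hw
    have h := ih fun x hx => hw x (List.mem_cons_of_mem _ hx)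
    have ha : m.L (presFi23.σ a) ∈ Hs D m.t :=
      Subgroup.subset_closure (m.L_spec (σ_mem23 (hw a (List.mem_cons_self ..)))).1
    refine ⟨?_, ?_⟩
    · show ((a :: w).map _).prod ∈ Hs D m.t
      rw [List.map_cons, List.prod_cons]
      exact mul_mem ha h.1
    · show bar D m.t (((a :: w).map _).prod) = m.ψ (((a :: w).map presFi23.σ).prod)
      rw [List.map_cons, List.prod_cons, List.map_cons, List.prod_cons, map_mul]
      show bar D m.t (m.L (presFi23.σ a) * m.Lw w) = _
      rw [bar_mul m.cls m.B ha h.1]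
      exact congrArg₂ (· * ·) (m.L_spec (σ_mem23 (hw a (List.mem_cons_self ..)))).2 h.2

/-- The parity of a product of transpositions. -/
theorem prod_parity : ∀ l : List G, (∀ a ∈ l, a ∈ D) → (l.prod ∈ commutator G ↔ Even l.length) := by
  have hi : (commutator G).index = 2 := by
    rw [← (M24.layer_eq m.hG m.hp m.hZ m.B).1]
    exact (M24.layer_eq m.hG m.hp m.hZ m.B).2
  intro l
  induction l with
  | nil => simp
  | cons a l ih =>
    intro hl
    have ha := M24.not_mem_commutator m.cls m.hp m.hZ m.B a (hl a (List.mem_cons_self ..))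
    rw [List.prod_cons, Subgroup.mul_mem_iff_of_index_two hi, List.length_cons, Nat.even_add_one,
      ih fun x hx => hl x (List.mem_cons_of_mem _ hx)]
    tauto

theorem Lw_parity {w : List ℕ} (hw : ∀ x ∈ w, x < 10) : m.Lw w ∈ commutator G ↔ Even w.length := by
  rw [Lw, m.prod_parity _ fun a ha => by
    obtain ⟨x, hx, rfl⟩ := List.mem_map.mp ha
    exact m.L_mem (σ_mem23 (hw x hx)), List.length_map]

/-- A lifted word of odd length over a member is that member. -/
theorem Lw_eq_L {w : List ℕ} (hw : ∀ x ∈ w, x < 10) (ho : ¬ Even w.length) {x : presFi23.Grp} (hx : x ∈ C23)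
    (h : W23 w = x) : m.Lw w = m.L x := by
  have ho' := m.over_word w hw
  have hLx : m.L x ∈ Hs D m.t := Subgroup.subset_closure (m.L_spec hx).1
  rcases bar_eq_cases m.cls m.hp m.hZ m.B ho'.1 hLx (by rw [ho'.2, (m.L_spec hx).2, h]) with e | e
  · exact e
  · refine absurd ((m.Lw_parity hw).mp ?_) ho
    rw [e, show m.L x * m.B.t = [m.L x, m.B.t].prod by simp, m.prod_parity _ (by
      simp only [List.mem_cons, List.not_mem_nil, or_false]
      rintro a (rfl | rfl)
      exacts [m.L_mem hx, m.B.ht])]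
    exact ⟨1, rfl⟩

/-- A lifted word of odd length over the identity is the base transposition. -/
theorem Lw_eq_t {w : List ℕ} (hw : ∀ x ∈ w, x < 10) (ho : ¬ Even w.length) (h : W23 w = 1) :
    m.Lw w = m.t := by
  have ho' := m.over_word w hw
  rcases ker_cases m.cls m.hp m.hZ m.B ho'.1 (by rw [ho'.2, h, map_one]) with e | e
  · exact absurd ((m.Lw_parity hw).mp (e ▸ one_mem _)) ho
  · exact e

end Model

end CfsgThreeTrans.M24.Unique
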