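/-
The exchange of two commuting transpositions in type M(24) acting on Fi22 as the interchange of its short arms.
-/
import Cfsg.Agent.Lib.ThreeTrans.M24.Unique.Lift

set_option autoImplicit false
set_option maxRecDepth 100000
set_option linter.unusedSectionVars false

namespace CfsgThreeTrans.M24.Unique

open Cfsg CfsgLib CfsgLib.CosetEnum
open CfsgThreeTrans.M23 (Hs Qt qt Et bar bar_eq)

universe u

variable {G : Type u} [Group G] [Finite G] {D : Set G}

theorem zw_up : Fi23Class.zw = ((List.replicate 9 [1, 2, 3, 4, 5, 6, 7]).flatten).map Fi23Class.emb := by decide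

theorem emb_map_lt {v : List ℕ} (hv : ∀ x ∈ v, x < 9) : ∀ x ∈ v.map Fi23Class.emb, x < 10 := by
  intro x hx
  obtain ⟨y, hy, rfl⟩ := List.mem_map.mp hx
  exact emb_lt10 y (hv y hy)

namespace Model

variable (m : Model D)
include m

/-- The second transposition. -/
noncomputable abbrev T : G := m.L tz

/-- The lifted generators of Fi22. -/
noncomputable abbrev N (x : ℕ) : G := m.L (presFi23.σ (Fi23Class.emb x))

/-- The product of lifted generators. -/
noncomputable def Nw (v : List ℕ) : G := (v.map m.N).prod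

theorem Nw_eq (v : List ℕ) : m.Nw v = m.Lw (v.map Fi23Class.emb) := by
  rw [Nw, Lw, List.map_map]; rfl

theorem T_word : m.Nw ((List.replicate 9 [1, 2, 3, 4, 5, 6, 7]).flatten) = m.T := by
  rw [Nw_eq, ← zw_up]
  exact m.Lw_eq_L (by decide) (by decide) tz_mem rfl

theorem T_ne : m.T ≠ m.t := m.L_ne tz_mem

theorem exists_pair_swap : ∃ g : G, g * m.t * g⁻¹ = m.T ∧ g * m.T * g⁻¹ = m.t := by
  obtain ⟨g0, hg0⟩ := cls_exists_conj m.cls m.B.ht (m.L_mem tz_mem)
  change g0 * m.t * g0⁻¹ = m.T at hg0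
  set u := g0⁻¹ * m.t * g0⁻¹⁻¹ with hu
  have e0 : g0⁻¹ * m.T * g0⁻¹⁻¹ = m.t := by rw [← hg0]; group
  have huD : u ∈ Ds D m.t := by
    refine ⟨cls_conj m.cls _ m.B.ht, fun e => m.T_ne ?_, ?_⟩
    · exact (cj_injective g0⁻¹ (e0.trans e.symm)).symm.symm
    · have h := (commute_cj_iff g0⁻¹).mpr (m.L_comm_t tz_mem).symm
      rwa [e0] at h
  obtain ⟨x, hx, ex⟩ := m.L_surj huD
  obtain ⟨k, hk⟩ := isConj_iff.mp hx
  obtain ⟨h, hh⟩ := m.exists_over k
  have ht : h * m.t * h⁻¹ = m.t := by rw [(closure_Ds_commute hh.1).eq, mul_inv_cancel_right]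
  have hT : h * m.T * h⁻¹ = u := by rw [m.L_conj hh tz_mem, hk, ex]
  refine ⟨g0 * h, ?_, ?_⟩
  · rw [show g0 * h * m.t * (g0 * h)⁻¹ = g0 * (h * m.t * h⁻¹) * g0⁻¹ by group, ht, hg0]
  · rw [show g0 * h * m.T * (g0 * h)⁻¹ = g0 * (h * m.T * h⁻¹) * g0⁻¹ by group, hT, hu]
    group

/-- The projection onto Fi22 is injective on the transpositions near the base one. -/
theorem near_inj {a b : presFi23.Grp} (ha : Near a) (hb : Near b) (h : p22 a = p22 b) : a = b := by
  rcases p22_cases ha hb h with e | e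
  · exact e.symm
  exfalso
  have hsq : tz * tz = 1 := Fi23Aut.t_sq
  have hab : Commute a b := e ▸ (Commute.refl a).mul_right ha.2.2
  have hba : b ≠ a := fun e' => Fi23Aut.t_ne (mul_left_cancel (a := a) (by rw [← e, e', mul_one]))
  have hprod : a * tz * b = 1 := by rw [e, show a * tz * (a * tz) = (a * tz) * (a * tz) from rfl,
    show a * tz * (a * tz) = (a * a) * (tz * tz) by
      rw [mul_assoc, ← mul_assoc tz a, ← ha.2.2.eq]; group, inv23 ha.1, hsq, one_mul]
  have hs := fun {y : presFi23.Grp} (hy : y ∈ C23) =>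
    (Subgroup.subset_closure (m.L_spec hy).1 : m.L y ∈ Hs D m.t)
  have hHs : m.L a * m.T * m.L b ∈ Hs D m.t := mul_mem (mul_mem (hs ha.1) (hs tz_mem)) (hs hb.1)
  have hbar : bar D m.t (m.L a * m.T * m.L b) = 1 := by
    rw [bar_mul m.cls m.B (mul_mem (hs ha.1) (hs tz_mem)) (hs hb.1), bar_mul m.cls m.B (hs ha.1) (hs tz_mem),
      (m.L_spec ha.1).2, (m.L_spec tz_mem).2, (m.L_spec hb.1).2, ← map_mul, ← map_mul, hprod, map_one]
  have hl : ∀ y ∈ [m.L a, m.T, m.L b], y ∈ D := by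
    simp only [List.mem_cons, List.not_mem_nil, or_false]
    rintro y (rfl | rfl | rfl)
    exacts [m.L_mem ha.1, m.L_mem tz_mem, m.L_mem hb.1]
  have hp3 : [m.L a, m.T, m.L b].prod = m.L a * m.T * m.L b := by simp [mul_assoc]
  have hval : m.L a * m.T * m.L b = m.t := by
    rcases ker_cases m.cls m.hp m.hZ m.B hHs hbar with e1 | e1
    · have h1 := (m.prod_parity _ hl).mp (by rw [hp3, e1]; exact one_mem _)
      exact absurd h1 (by simp [Nat.even_add_one])
    · exact e1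
  have hne : ∀ {y z : presFi23.Grp}, y ∈ C23 → z ∈ C23 → y ≠ z → m.L y ≠ m.L z :=
    fun hy hz hn e' => hn (m.L_inj hy hz e')
  refine M24.norel m.cls m.hp m.hZ m.B [m.L a, m.T, m.L b, m.t] (by simp) (by simp) ?_ ?_ ?_ ?_
  · simp only [List.nodup_cons, List.mem_cons, List.not_mem_nil, or_false, List.nodup_nil, and_true, not_or,
      not_false_eq_true]
    exact ⟨⟨hne ha.1 tz_mem ha.2.1, hne ha.1 hb.1 hba.symm, m.L_ne ha.1⟩,
      ⟨hne tz_mem hb.1 hb.2.1.symm, m.T_ne⟩, m.L_ne hb.1⟩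
  · simp only [List.mem_cons, List.not_mem_nil, or_false]
    rintro y (rfl | rfl | rfl | rfl)
    exacts [m.L_mem ha.1, m.L_mem tz_mem, m.L_mem hb.1, m.B.ht]
  · have c1 : Commute (m.L a) m.T := (m.L_commute ha.1 tz_mem).mpr ha.2.2
    have c2 : Commute (m.L a) (m.L b) := (m.L_commute ha.1 hb.1).mpr hab
    have c3 : Commute m.T (m.L b) := (m.L_commute tz_mem hb.1).mpr hb.2.2.symm
    have c4 := (m.L_comm_t ha.1).symm
    have c5 := (m.L_comm_t tz_mem).symm
    have c6 := (m.L_comm_t hb.1).symm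
    simp only [List.mem_cons, List.not_mem_nil, or_false]
    rintro y (rfl | rfl | rfl | rfl) z (rfl | rfl | rfl | rfl)
    exacts [.refl _, c1, c2, c4, c1.symm, .refl _, c3, c5, c2.symm, c3.symm, .refl _, c6, c4.symm, c5.symm,
      c6.symm, .refl _]
  · simp only [List.prod_cons, List.prod_nil, mul_one]
    rw [← mul_assoc, ← mul_assoc, hval]
    exact mul_self m.cls.1 m.B.ht

theorem near_comm {a b : presFi23.Grp} (ha : Near a) (hb : Near b) :
    Commute (p22 a) (p22 b) ↔ Commute a b := by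
  refine ⟨fun h => ?_, p22_commute ha hb⟩
  by_contra hn
  exact hn (m.near_inj ha hb (p22_eq_of_commute ha hb hn h) ▸ Commute.refl _)

theorem conj_prod (g : G) : ∀ l : List G, g * l.prod * g⁻¹ = (l.map fun a => g * a * g⁻¹).prod := by
  intro l
  induction l with
  | nil => simp
  | cons a l ih => rw [List.map_cons, List.prod_cons, List.prod_cons, ← ih]; group

theorem conj_Nw {g : G} {f : ℕ → ℕ} (h : ∀ x < 9, g * m.N x * g⁻¹ = m.N (f x)) (v : List ℕ)
    (hv : ∀ x ∈ v, x < 9) : g * m.Nw v * g⁻¹ = m.Nw (v.map f) := by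
  rw [Nw, m.conj_prod, Nw, List.map_map, List.map_map]
  exact congrArg List.prod (List.map_congr_left fun x hx => h x (hv x hx))

/-- **The exchange.** -/
theorem exists_swap : ∃ w : G, w * m.t * w⁻¹ = m.T ∧ w * m.T * w⁻¹ = m.t ∧
    ∀ x < 9, w * m.N x * w⁻¹ = m.N (Fi22Aut.sw x) := by
  classical
  obtain ⟨g, hgt, hgT⟩ := m.exists_pair_swap
  have hy : ∀ x, ∃ y : presFi23.Grp, x < 9 → Near y ∧ m.L y = g * m.N x * g⁻¹ := by
    intro x
    by_cases hx : x < 9
    · have hn := near_gen hx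
      have hmem : g * m.N x * g⁻¹ ∈ Ds D m.t := by
        refine ⟨cls_conj m.cls _ (m.L_mem hn.1), fun e => hn.2.1 ?_, ?_⟩
        · exact m.L_inj hn.1 tz_mem (cj_injective g (e.trans hgT.symm))
        · exact hgT ▸ (commute_cj_iff g).mpr ((m.L_commute tz_mem hn.1).mpr hn.2.2.symm)
      obtain ⟨y, hy, ey⟩ := m.L_surj hmem
      refine ⟨y, fun _ => ⟨⟨hy, fun e => m.L_ne hn.1 ?_, ?_⟩, ey⟩⟩
      · refine cj_injective g ?_
        show g * m.N x * g⁻¹ = g * m.t * g⁻¹
        rw [hgt, ← ey, e]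
      · rw [← m.L_commute hy tz_mem, ey]
        have h1 := (commute_cj_iff g).mpr (m.L_comm_t hn.1).symm
        rwa [hgt] at h1
    · exact ⟨1, fun h => absurd h hx⟩
  choose y hy using hy
  have hlt : ∀ a ∈ Fi22Aut.conf, a.1 < 9 ∧ a = (a.1, Fi22Aut.qOf a.1) := fun a ha => by
    obtain ⟨x, hx, rfl⟩ := Fi22Aut.conf_mem ha
    exact ⟨hx, rfl⟩
  have hyc : ∀ a, a < 9 → ∀ b, b < 9 →
      (Commute (p22 (y a)) (p22 (y b)) ↔ Commute (presFi22.σ a) (presFi22.σ b)) := by
    intro a ha b hb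
    rw [m.near_comm (hy a ha).1 (hy b hb).1, ← m.L_commute (hy a ha).1.1 (hy b hb).1.1, (hy a ha).2, (hy b hb).2,
      ← p22_gen ha, ← p22_gen hb, m.near_comm (near_gen ha) (near_gen hb),
      ← m.L_commute (near_gen ha).1 (near_gen hb).1]
    exact commute_cj_iff g
  obtain ⟨α, hα⟩ := Fi22Octet.aut_tuple (pre := Fi22Aut.conf) (rest := []) (z := fun x => p22 (y x))
    (List.append_nil _).symm
    ⟨fun a ha => p22_class (hy _ (hlt a ha).1).1,
      fun a ha b hb e => by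
        have h1 : m.L (y a.1) = m.L (y b.1) :=
          congrArg m.L (m.near_inj (hy _ (hlt a ha).1).1 (hy _ (hlt b hb).1).1 e)
        rw [(hy _ (hlt a ha).1).2, (hy _ (hlt b hb).1).2] at h1
        have h2 := σ_inj (emb_lt10 _ (hlt a ha).1) (emb_lt10 _ (hlt b hb).1)
          (m.L_inj (near_gen (hlt a ha).1).1 (near_gen (hlt b hb).1).1 (cj_injective g h1))
        have h3 : ∀ i < 9, ∀ j < 9, Fi23Class.emb i = Fi23Class.emb j → i = j := by decide
        rw [(hlt a ha).2, (hlt b hb).2, h3 _ (hlt a ha).1 _ (hlt b hb).1 h2],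
      fun a ha b hb => hyc _ (hlt a ha).1 _ (hlt b hb).1⟩
  have hαx : ∀ x < 9, α (presFi22.σ x) = p22 (y x) := fun x hx => hα _ (Fi22Aut.conf_all x hx)
  -- adjust by a member of the centraliser
  have adjust : ∀ (q : presFi22.Grp) (f : ℕ → ℕ), (∀ x < 9, f x < 9) →
      (∀ x < 9, α (presFi22.σ x) = q * presFi22.σ (f x) * q⁻¹) →
      ∃ w : G, w * m.t * w⁻¹ = m.T ∧ w * m.T * w⁻¹ = m.t ∧ ∀ x < 9, w * m.N x * w⁻¹ = m.N (f x) := by
    intro q f hf hq
    obtain ⟨⟨k, hk⟩, hkq⟩ := proj22_surj q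
    obtain ⟨h, hh⟩ := m.exists_over k
    have hkc : Commute k tz := mem_sub23.mp hk
    have ht : h * m.t * h⁻¹ = m.t := by rw [(closure_Ds_commute hh.1).eq, mul_inv_cancel_right]
    have hT : h * m.T * h⁻¹ = m.T := by
      rw [m.L_conj hh tz_mem, hkc.eq, mul_inv_cancel_right]
    refine ⟨h⁻¹ * g, ?_, ?_, fun x hx => ?_⟩
    · rw [show h⁻¹ * g * m.t * (h⁻¹ * g)⁻¹ = h⁻¹ * (g * m.t * g⁻¹) * h by group, hgt]
      conv_lhs => rw [← hT]
      group
    · rw [show h⁻¹ * g * m.T * (h⁻¹ * g)⁻¹ = h⁻¹ * (g * m.T * g⁻¹) * h by group, hgT]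
      conv_lhs => rw [← ht]
      group
    · have hn := near_gen (hf x hx)
      have hk' : k * presFi23.σ (Fi23Class.emb (f x)) * k⁻¹ = y x := by
        refine m.near_inj ⟨IsConj.trans hn.1 (isConj_iff.mpr ⟨k, rfl⟩), fun e => hn.2.1 ?_, ?_⟩ (hy x hx).1 ?_
        · refine cj_injective k (e.trans ?_)
          show tz = k * tz * k⁻¹
          rw [hkc.eq, mul_inv_cancel_right]
        · have := (commute_cj_iff k).mpr hn.2.2
          rwa [hkc.eq, mul_inv_cancel_right] at this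
        · have hc : Commute (k * presFi23.σ (Fi23Class.emb (f x)) * k⁻¹) tz :=
            (hkc.mul_left hn.2.2).mul_left hkc.inv_left
          rw [p22_eq hc, ← hαx x hx, hq x hx, ← hkq, ← p22_gen (hf x hx), p22_eq hn.2.2, ← map_inv, ← map_mul,
            ← map_mul]
          rfl
      rw [show h⁻¹ * g * m.N x * (h⁻¹ * g)⁻¹ = h⁻¹ * (g * m.N x * g⁻¹) * h by group, ← (hy x hx).2, ← hk',
        ← m.L_conj hh hn.1]
      group
  have hidx : (Cfsg.Inn presFi22.Grp).index = 2 := Fi22Aut.card_out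
  by_cases hin : α ∈ Cfsg.Inn presFi22.Grp
  · exfalso
    obtain ⟨q, rfl⟩ := MonoidHom.mem_range.mp hin
    obtain ⟨w, -, h2, h3⟩ := adjust q id (fun x hx => hx) fun x _ => MulAut.conj_apply q _
    refine m.T_ne ?_
    rw [← h2]
    conv_lhs => rw [← m.T_word]
    conv_rhs => rw [← m.T_word, m.conj_Nw (f := id) h3 _ (by decide), List.map_id]
  · have h' : α * Fi22Aut.θA ∈ Cfsg.Inn presFi22.Grp :=
      (Subgroup.mul_mem_iff_of_index_two hidx).mpr (iff_of_false hin Fi22Aut.θA_outer)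
    obtain ⟨q, hq⟩ := MonoidHom.mem_range.mp h'
    refine adjust q Fi22Aut.sw Fi22Aut.sw_lt fun x hx => ?_
    have e := DFunLike.congr_fun hq (presFi22.σ (Fi22Aut.sw x))
    rw [MulAut.conj_apply, MulAut.mul_apply] at e
    rw [e]
    congr 1
    show _ = Fi22Aut.θ (presFi22.σ (Fi22Aut.sw x))
    rw [Fi22Aut.θ_σ (Fi22Aut.sw_lt x hx), Fi22Aut.sw_sw x hx]

end Model

end CfsgThreeTrans.M24.Unique
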