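/-
The finite check deciding the commutation of the last generator in the swap of two transpositions of M(24).
-/
import Cfsg.Agent.Lib.CosetEnum.Fi23Class.Main
import Cfsg.Agent.Lib.CosetEnum.Fi23Aut.Checks
import Cfsg.Agent.Lib.CosetEnum.Fi22Aut.Fun

set_option autoImplicit false
set_option maxRecDepth 1000000

namespace CfsgThreeTrans.M24.Unique

open CfsgLib.CosetEnum

/-- A word in the generators of the centraliser as a word of Fi23. -/
def up23 (o : List ℕ) : List ℕ := o.map fun x => ([0, 1, 2, 3, 4, 5, 6, 8, 9] : List ℕ).getD x 10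

/-- The exchanged word. -/
def swW (o : List ℕ) : List ℕ := o.map Fi22Aut.sw

/-- The reflection in the image of the first generator under the exchanged word. -/
def refW (o : List ℕ) : List ℕ := (up23 (swW o)).reverse ++ [6] ++ up23 (swW o)

/-- The path to the point of the last generator of the centraliser. -/
def path9 : List ℕ := [7, 6, 5, 4, 3, 2, 8, 3, 4, 5, 6, 7, 9, 8, 3, 2, 4, 3, 5, 4, 6, 5, 8, 3, 2, 4, 3, 8]

/-- The orbit word of the last outer generator. -/
def oJ : List ℕ := [1, 0, 2, 1, 3, 2, 7, 3, 8, 7]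

/-- The orbit words of the generators known to commute, with those generators. -/
def orbW : List (ℕ × List ℕ) :=
  [(10, [1, 0, 2, 3, 4, 5, 6, 7, 3, 2, 4, 3, 5, 4, 7, 3, 2, 1]), (6, [1, 0, 2, 1, 3, 2, 7, 3]),
    (5, [1, 0, 2, 1, 3, 2]), (4, [1, 0, 2, 1, 3, 2, 4, 3]), (3, [1, 0, 2, 1, 3, 2, 4, 3, 5, 4])]

/-- The point of a generator of Fi23. -/
def gPt (x : ℕ) : ℕ := Fi23Aut.genPts.getD x 0

/-- The point of a generator, the base point for the number ten. -/
noncomputable def srcPt (x : ℕ) : ℕ := Bool.rec (gPt x) 0 (Nat.beq x 10)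

theorem orb_ok : ∀ p ∈ (7, oJ) :: orbW, (∀ x ∈ p.2, x < 9) ∧
    runT Fi31671.table 10 (up23 p.2) (gPt 0) = runT Fi31671.table 10 path9.reverse (srcPt p.1) := by
  decide +kernel

theorem path9_ok : runT Fi31671.table 10 path9 0 = gPt 9 := Nat.eq_of_beq_eq_true (by decide +kernel)

/-- A point moved by the base transposition and fixed by the five reflections is fixed by the sixth. -/
noncomputable def okJ (r : ℕ) : Bool :=
  Nat.beq (Fi23Class.zf r) r ||
    List.rec (motive := fun _ => Bool) (Nat.beq (runT Fi31671.table 10 (refW oJ) r) r)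
      (fun p _ ih => Bool.rec true ih (Nat.beq (runT Fi31671.table 10 (refW p.2) r) r)) orbW

/-- The check from a point on. -/
noncomputable def okJs (lo m : ℕ) : Bool := allN m fun i => force (Nat.add lo i) okJ

theorem okJs_sound {lo m : ℕ} (h : okJs lo m = true) (hlo : ∀ d < lo, okJ d = true) :
    ∀ d < lo + m, okJ d = true := by
  intro d hd
  by_cases hd' : d < lo
  · exact hlo d hd'
  · have := allN_spec (f := fun i => force (Nat.add lo i) okJ) h (d - lo) (by omega)
    rwa [force_eq, show Nat.add lo (d - lo) = d by show lo + (d - lo) = d; omega] at this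

theorem okJ0 : ∀ d < 8000, okJ d = true :=
  okJs_sound (lo := 0) (m := 8000) (by decide +kernel) fun d hd => absurd hd (Nat.not_lt_zero d)

theorem okJ1 : ∀ d < 16000, okJ d = true := okJs_sound (lo := 8000) (m := 8000) (by decide +kernel) okJ0

theorem okJ2 : ∀ d < 24000, okJ d = true := okJs_sound (lo := 16000) (m := 8000) (by decide +kernel) okJ1

theorem okJ3 : ∀ d < 31671, okJ d = true := okJs_sound (lo := 24000) (m := 7671) (by decide +kernel) okJ2

theorem okJ_spec {r : ℕ} (hr : r < 31671) (hmove : Fi23Class.zf r ≠ r)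
    (hfix : ∀ p ∈ orbW, runT Fi31671.table 10 (refW p.2) r = r) : runT Fi31671.table 10 (refW oJ) r = r := by
  have h := okJ3 r hr
  rw [okJ, show Nat.beq (Fi23Class.zf r) r = false from by
    cases hb : Nat.beq (Fi23Class.zf r) r
    · rfl
    · exact absurd (Nat.eq_of_beq_eq_true hb) hmove, Bool.false_or] at h
  have main : ∀ L : List (ℕ × List ℕ), (∀ p ∈ L, runT Fi31671.table 10 (refW p.2) r = r) →
      List.rec (motive := fun _ => Bool) (Nat.beq (runT Fi31671.table 10 (refW oJ) r) r)
        (fun p _ ih => Bool.rec true ih (Nat.beq (runT Fi31671.table 10 (refW p.2) r) r)) L = true →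
      runT Fi31671.table 10 (refW oJ) r = r := by
    intro L
    induction L with
    | nil => intro _ h; exact Nat.eq_of_beq_eq_true h
    | cons p L ih =>
      intro hL h
      simp only [hL p (List.mem_cons_self ..), Nat.beq_refl] at h
      exact ih (fun q hq => hL q (List.mem_cons_of_mem _ hq)) h
  exact main orbW hfix h

end CfsgThreeTrans.M24.Unique
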