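/-
The transposition of type M(24) completing the generators of Fi23 to those of Fi24.
-/
import Cfsg.Agent.Lib.ThreeTrans.M24.Unique.Swap
import Cfsg.Agent.Lib.ThreeTrans.M24.Unique.Table

set_option autoImplicit false
set_option maxRecDepth 100000
set_option linter.unusedSectionVars false

namespace CfsgThreeTrans.M24.Unique

open Cfsg CfsgLib CfsgLib.CosetEnum
open CfsgThreeTrans.M23 (Hs Qt qt Et bar bar_eq)

universe u

variable {G : Type u} [Group G] [Finite G] {D : Set G}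

theorem gPt_eq (x : ℕ) : gPt x = Fi23Aut.qOf x := rfl

theorem up23_eq (o : List ℕ) : up23 o = o.map Fi23Class.emb := rfl

theorem up23_lt {o : List ℕ} (ho : ∀ x ∈ o, x < 9) : ∀ x ∈ (up23 o).reverse, x < 10 := fun x hx =>
  emb_map_lt ho x (List.mem_reverse.mp hx)

theorem path9_lt : ∀ x ∈ path9, x < presFi23.k := by decide

theorem W23_path9 : W23 path9.reverse * tz * (W23 path9.reverse)⁻¹ = presFi23.σ 9 := by
  refine Fi31671.cert.isPt_unique Fi31671.hlt Fi23Aut.stabIsCent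
    (Fi31671.cert.isPt_word Fi31671.hlt Fi23Aut.hid path9.reverse (fun x hx => path9_lt x (List.mem_reverse.mp hx))
      (Fi23Aut.qOf_lt 9 (by norm_num)) ?_) (Fi23Aut.pt_gen 9 (by norm_num))
  rw [List.reverse_reverse]
  exact path9_ok.trans (gPt_eq 9)

/-- The element at an orbit word. -/
noncomputable def elt (o : List ℕ) : presFi23.Grp :=
  W23 (up23 o).reverse * presFi23.σ 0 * (W23 (up23 o).reverse)⁻¹

theorem src_pt {x : ℕ} (hx : x < 10 ∨ x = 10) : ∃ y, y ∈ C23 ∧ ∃ hq : srcPt x < 31671,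
    Fi31671.cert.IsPt Fi31671.hlt tz y ⟨srcPt x, hq⟩ ∧ (x < 10 → y = presFi23.σ x) ∧ (x = 10 → y = tz) := by
  rcases hx with hx | rfl
  · have e : srcPt x = Fi23Aut.qOf x := by
      rw [srcPt, show Nat.beq x 10 = false from Bool.eq_false_iff.mpr fun h => hx.ne (Nat.eq_of_beq_eq_true h)]
      exact gPt_eq x
    refine ⟨_, σ_mem23 hx, e ▸ Fi23Aut.qOf_lt x hx, ?_, fun _ => rfl, fun h => absurd h hx.ne⟩
    rw [show (⟨srcPt x, e ▸ Fi23Aut.qOf_lt x hx⟩ : Fin Fi31671.cert.T.n) =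
      ⟨Fi23Aut.qOf x, Fi23Aut.qOf_lt x hx⟩ from Fin.ext e]
    exact Fi23Aut.pt_gen x hx
  · exact ⟨tz, tz_mem, Fi31671.cert.hn, Fi31671.cert.isPt_base Fi31671.hlt, fun h => absurd h (lt_irrefl _),
      fun _ => rfl⟩

theorem elt_eq {o : List ℕ} (ho : ∀ x ∈ o, x < 9) {y : presFi23.Grp} {q : ℕ} (hq : q < 31671)
    (hy : Fi31671.cert.IsPt Fi31671.hlt tz y ⟨q, hq⟩)
    (h : runT Fi31671.table 10 (up23 o) (gPt 0) = runT Fi31671.table 10 path9.reverse q) :
    elt o = (W23 path9.reverse)⁻¹ * y * W23 path9.reverse := by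
  have h1 := Fi31671.cert.isPt_conj Fi31671.hlt (Fi23Aut.pt_gen 0 (by norm_num)) (W23 (up23 o).reverse)
  have hc : (W23 path9.reverse)⁻¹ = W23 path9 := by
    rw [← prod_reverse_inv presFi23.σ presFi23.σ_sq, List.reverse_reverse]
  have h2 := Fi31671.cert.isPt_conj Fi31671.hlt hy (W23 path9)
  rw [hc, show W23 path9.reverse = (W23 path9)⁻¹ by rw [← hc, inv_inv]]
  refine Fi31671.cert.isPt_unique Fi31671.hlt Fi23Aut.stabIsCent ?_ h2
  have e : Fi31671.cert.hom Fi31671.hlt (W23 (up23 o).reverse) ⟨Fi23Aut.qOf 0, Fi23Aut.qOf_lt 0 (by norm_num)⟩ =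
      Fi31671.cert.hom Fi31671.hlt (W23 path9) ⟨q, hq⟩ := by
    refine Fin.ext ?_
    rw [Fi31671.cert.hom_word_run' Fi31671.hlt Fi23Aut.hid _ (up23_lt ho),
      Fi31671.cert.hom_word_run' Fi31671.hlt Fi23Aut.hid _ path9_lt, List.reverse_reverse]
    exact h
  exact e ▸ h1

theorem elt_sw {o : List ℕ} :
    W23 (refW o) = W23 (up23 (swW o)).reverse * presFi23.σ 6 * (W23 (up23 (swW o)).reverse)⁻¹ := by
  rw [← prod_reverse_inv presFi23.σ presFi23.σ_sq, List.reverse_reverse]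
  simp only [refW, W23, List.map_append, List.prod_append, List.map_cons, List.map_nil, List.prod_cons,
    List.prod_nil, mul_one]

theorem swW_lt {o : List ℕ} (ho : ∀ x ∈ o, x < 9) : ∀ x ∈ swW o, x < 9 := by
  intro x hx
  obtain ⟨y, hy, rfl⟩ := List.mem_map.mp hx
  exact Fi22Aut.sw_lt y (ho y hy)

theorem refW_lt {o : List ℕ} (ho : ∀ x ∈ o, x < 9) : ∀ x ∈ refW o, x < 10 := by
  intro x hx
  simp only [refW, List.mem_append, List.mem_reverse, List.mem_singleton] at hx
  rcases hx with (hx | rfl) | hx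
  exacts [emb_map_lt (swW_lt ho) x hx, by norm_num, emb_map_lt (swW_lt ho) x hx]

namespace Model

variable (m : Model D)
include m

/-- **The last generator.** -/
theorem exists_third : ∃ k ∈ D, ¬ Commute k m.t ∧ Commute k m.T ∧
    (∀ x < 9, (Commute k (m.N x) ↔ x ≠ 0)) ∧ Commute k (m.L (presFi23.σ 7)) := by
  obtain ⟨w, hwt, hwT, hwN⟩ := m.exists_swap
  have h7 := σ_mem23 (x := 7) (by norm_num)
  refine ⟨w * m.L (presFi23.σ 7) * w⁻¹, cls_conj m.cls _ (m.L_mem h7), ?_⟩
  set k := w * m.L (presFi23.σ 7) * w⁻¹ with hk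
  have hkt : ¬ Commute k m.t := by
    rw [hk, ← hwT, commute_cj_iff w, m.L_commute h7 tz_mem]
    exact seven_far
  have hkT : Commute k m.T := by
    rw [hk, ← hwt, commute_cj_iff w]
    exact (m.L_comm_t h7).symm
  have hkN : ∀ x < 9, (Commute k (m.N x) ↔ x ≠ 0) := by
    intro x hx
    have hs := Fi22Aut.sw_lt x hx
    have e := hwN _ hs
    rw [Fi22Aut.sw_sw x hx] at e
    rw [hk, ← e, commute_cj_iff w, m.L_commute h7 (near_gen hs).1, seven_commute hs]
    have : ∀ y < 9, (Fi22Aut.sw y ≠ 6 ↔ y ≠ 0) := by decide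
    exact this x hx
  refine ⟨hkt, hkT, hkN, ?_⟩
  -- the conjugate of the new member seen from the last generator of the centraliser
  set c := W23 path9.reverse with hc
  set h := m.Lw path9.reverse
  have hlt : ∀ x ∈ path9.reverse, x < 10 := fun x hx => path9_lt x (List.mem_reverse.mp hx)
  have hh : m.Over h c := m.over_word _ hlt
  have hht : Commute h m.t := closure_Ds_commute hh.1
  have hback : ∀ {y : presFi23.Grp}, y ∈ C23 → h⁻¹ * m.L y * h = m.L (c⁻¹ * y * c) := by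
    intro y hy
    have hy' : c⁻¹ * y * c ∈ C23 := IsConj.trans hy (isConj_iff.mpr ⟨c⁻¹, by group⟩)
    have e := m.L_conj hh hy'
    rw [show c * (c⁻¹ * y * c) * c⁻¹ = y by group] at e
    rw [← e]
    group
  set v := w * (h⁻¹ * k * h) * w⁻¹ with hv
  have hvD : v ∈ D := cls_conj m.cls _ (by
    have := cls_conj m.cls h⁻¹ (cls_conj m.cls w (m.L_mem h7))
    rwa [inv_inv] at this)
  have hvT : ¬ Commute v m.T := by
    rw [hv, ← hwt, commute_cj_iff w]
    intro hcm
    refine hkt ?_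
    have := (commute_cj_iff h).mpr hcm
    rwa [show h * (h⁻¹ * k * h) * h⁻¹ = k by group, hht.eq, mul_inv_cancel_right] at this
  have hvt : Commute v m.t := by
    rw [hv, ← hwT, commute_cj_iff w, ← commute_cj_iff h,
      show h * (h⁻¹ * k * h) * h⁻¹ = k by group, m.L_conj hh tz_mem, hc, W23_path9]
    exact (hkN 8 (by norm_num)).mpr (by norm_num)
  obtain ⟨r', hr', er'⟩ := m.L_surj (d := v) ⟨hvD, fun e => hvT (e ▸ m.L_comm_t tz_mem), hvt.symm⟩
  obtain ⟨r, hr⟩ := Fi31671.cert.isPt_of_mem Fi31671.hlt hr'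
  have key : ∀ (o : List ℕ) (y : presFi23.Grp), (∀ x ∈ o, x < 9) → y ∈ C23 → elt o = c⁻¹ * y * c →
      (Commute k (m.L y) ↔ runT Fi31671.table 10 (refW o) r = r) := by
    intro o y ho hy he
    have hNw : m.Over (m.Nw o.reverse) (W23 (up23 o).reverse) := by
      rw [m.Nw_eq, List.map_reverse, ← up23_eq]
      exact m.over_word _ (up23_lt ho)
    have hNs : m.Over (m.Nw (swW o).reverse) (W23 (up23 (swW o)).reverse) := by
      rw [m.Nw_eq, List.map_reverse, ← up23_eq]
      exact m.over_word _ (up23_lt (swW_lt ho))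
    have hwe : w * m.L (c⁻¹ * y * c) * w⁻¹ = m.L (W23 (refW o)) := by
      rw [← he, elt, ← m.L_conj hNw (σ_mem23 (by norm_num)), elt_sw, ← m.L_conj hNs (σ_mem23 (by norm_num))]
      have e1 := m.conj_Nw hwN o.reverse fun x hx => ho x (List.mem_reverse.mp hx)
      rw [List.map_reverse] at e1
      change w * m.Nw o.reverse * w⁻¹ = m.Nw (swW o).reverse at e1
      have e2 : w * m.L (presFi23.σ 0) * w⁻¹ = m.L (presFi23.σ 6) := hwN 0 (by norm_num)
      rw [← e1, ← e2]
      group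
    have hry : W23 (refW o) ∈ C23 := by
      rw [elt_sw]
      exact IsConj.trans (σ_mem23 (x := 6) (by norm_num)) (isConj_iff.mpr ⟨_, rfl⟩)
    have e : Commute k (m.L y) ↔ Commute r' (W23 (refW o)) := by
      rw [← m.L_commute hr' hry, er', ← hwe, hv, commute_cj_iff w, ← hback hy]
      have := commute_cj_iff h⁻¹ (x := k) (y := m.L y)
      rw [inv_inv] at this
      exact this.symm
    rw [e]
    have hfx := (Fi31671.cert.isPt_fix Fi31671.hlt Fi23Aut.stabIsCent hr (W23 (refW o)))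
    rw [Fin.ext_iff, Fi31671.cert.hom_word_run' Fi31671.hlt Fi23Aut.hid _ (refW_lt ho),
      show (refW o).reverse = refW o by simp [refW, List.append_assoc]] at hfx
    exact ⟨fun h => hfx.mpr h.eq.symm, fun h => (hfx.mp h : _).symm⟩
  have hmove : Fi23Class.zf r ≠ r := fun e => hvT <| by
    have h1 : Fi31671.cert.hom Fi31671.hlt tz r = r := Fin.ext ((Fi23Aut.real_t r).trans e)
    have h2 : Commute r' tz :=
      ((Fi31671.cert.isPt_fix Fi31671.hlt Fi23Aut.stabIsCent hr tz).mp h1).symm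
    exact er' ▸ (m.L_commute hr' tz_mem).mpr h2
  have hJ : runT Fi31671.table 10 (refW oJ) r = r := by
    refine okJ_spec r.2 hmove fun p hp => ?_
    have hp' := orb_ok p (List.mem_cons_of_mem _ hp)
    have hx : p.1 = 10 ∨ (p.1 = 6 ∨ p.1 = 5 ∨ p.1 = 4 ∨ p.1 = 3) := by
      revert p
      decide
    obtain ⟨y, hy, hq, hyp, hgen, hbase⟩ := src_pt (x := p.1) (by omega)
    refine (key p.2 y hp'.1 hy (elt_eq hp'.1 hq hyp hp'.2)).mp ?_
    rcases hx with h10 | hx
    · rw [hbase h10]; exact hkT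
    · rw [hgen (by omega)]
      have : ∀ x, x = 6 ∨ x = 5 ∨ x = 4 ∨ x = 3 → Fi23Class.emb x = x ∧ x < 9 ∧ x ≠ 0 := by
        rintro x (rfl | rfl | rfl | rfl) <;> decide
      obtain ⟨e1, e2, e3⟩ := this p.1 hx
      have hN := (hkN p.1 e2).mpr e3
      rwa [Model.N, e1] at hN
  have hJ' := orb_ok (7, oJ) (List.mem_cons_self ..)
  obtain ⟨y, hy, hq, hyp, hgen, -⟩ := src_pt (x := 7) (Or.inl (by norm_num))
  have := (key oJ y hJ'.1 hy (elt_eq hJ'.1 hq hyp hJ'.2)).mpr hJ
  rwa [hgen (by norm_num)] at this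

end Model

end CfsgThreeTrans.M24.Unique
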