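/-
Twelve transpositions of type M(24) on the diagram of Fi24.
-/
import Cfsg.Agent.Lib.ThreeTrans.M24.Unique.Third
import Cfsg.Agent.Lib.CosetEnum.PresFi24

set_option autoImplicit false
set_option maxRecDepth 100000
set_option linter.unusedSectionVars false

namespace CfsgThreeTrans.M24.Unique

open Cfsg CfsgLib CfsgLib.CosetEnum
open CfsgThreeTrans.M23 (Hs Qt qt Et bar bar_eq)

universe u

variable {G : Type u} [Group G] [Finite G] {D : Set G}

/-- In a primitive class the centraliser of a member is maximal. -/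
theorem centralizer_maximal (hp : IsPrimitiveUnderConj D) (hcj : ∀ g : G, ∀ d ∈ D, g * d * g⁻¹ ∈ D) {t : G}
    (ht : t ∈ D) {K : Subgroup G} (hK : Subgroup.centralizer ({t} : Set G) ≤ K) :
    K = Subgroup.centralizer ({t} : Set G) ∨ K = ⊤ := by
  set O := (fun k => k * t * k⁻¹) '' (K : Set G) with hO
  have hsub : O ⊆ D := by rintro _ ⟨k, -, rfl⟩; exact hcj k t ht
  have hblock : ∀ g : G, (fun x => g * x * g⁻¹) '' O = O ∨ Disjoint ((fun x => g * x * g⁻¹) '' O) O := by
    intro g
    by_cases hg : g ∈ K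
    · left
      ext y
      constructor
      · rintro ⟨_, ⟨a, ha, rfl⟩, rfl⟩
        exact ⟨g * a, mul_mem hg ha, by group⟩
      · rintro ⟨a, ha, rfl⟩
        exact ⟨_, ⟨g⁻¹ * a, mul_mem (inv_mem hg) ha, rfl⟩, by group⟩
    · right
      rw [Set.disjoint_left]
      rintro _ ⟨_, ⟨a, ha, rfl⟩, rfl⟩ ⟨b, hb, e⟩
      have hc : b⁻¹ * g * a ∈ Subgroup.centralizer ({t} : Set G) := by
        refine Subgroup.mem_centralizer_singleton_iff.mpr ?_
        calc b⁻¹ * g * a * t = b⁻¹ * (g * (a * t * a⁻¹) * g⁻¹) * (g * a) := by group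
          _ = b⁻¹ * (b * t * b⁻¹) * (g * a) := by rw [show b * t * b⁻¹ = g * (a * t * a⁻¹) * g⁻¹ from e]
          _ = t * (b⁻¹ * g * a) := by group
      refine hg ?_
      have := mul_mem (mul_mem hb (hK hc)) (inv_mem ha)
      rwa [show b * (b⁻¹ * g * a) * a⁻¹ = g by group] at this
  rcases hp.2.2 O hsub hblock with h | h
  · refine Or.inl (le_antisymm (fun k hk => ?_) hK)
    have := h (y := t) ⟨k, hk, rfl⟩ ⟨1, one_mem K, by group⟩
    exact Subgroup.mem_centralizer_singleton_iff.mpr (mul_inv_eq_iff_eq_mul.mp this)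
  · refine Or.inr (eq_top_iff.mpr fun g _ => ?_)
    obtain ⟨a, ha, e⟩ := h.symm.subset (hcj g t ht)
    have hc : a⁻¹ * g ∈ Subgroup.centralizer ({t} : Set G) := by
      refine Subgroup.mem_centralizer_singleton_iff.mpr ?_
      calc a⁻¹ * g * t = a⁻¹ * (g * t * g⁻¹) * g := by group
        _ = a⁻¹ * (a * t * a⁻¹) * g := by rw [show a * t * a⁻¹ = g * t * g⁻¹ from e]
        _ = t * (a⁻¹ * g) := by group
    have := mul_mem ha (hK hc)
    rwa [mul_inv_cancel_left] at this

/-- The relator pinning the first generator. -/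
def relL : List ℕ := [0] ++ (List.replicate 9 e7Fi24).flatten.reverse

/-- The relator of order seventeen. -/
def relZ : List ℕ := (List.replicate 17 zWFi24).flatten

theorem label23_table : ∀ i < 10, ∀ j < 10, i ≠ j →
    Nat.beq (Fi31671.table.act 10 (Fi23Aut.qOf j) i) (Fi23Aut.qOf j) = !(Nat.beq (presFi23.m i j) 3) := by
  decide +kernel

theorem σ23_commute {i j : ℕ} (hi : i < 10) (hj : j < 10) (hne : i ≠ j) :
    Commute (presFi23.σ i) (presFi23.σ j) ↔ presFi23.m i j ≠ 3 := by
  rw [commute_iff_table hi hj]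
  have h := label23_table i hi j hj hne
  constructor
  · intro e e3
    rw [e, e3, Nat.beq_refl] at h
    exact absurd h (by decide)
  · intro h3
    rw [show Nat.beq (presFi23.m i j) 3 = false from Bool.eq_false_iff.mpr fun e => h3 (Nat.eq_of_beq_eq_true e)] at h
    exact Nat.eq_of_beq_eq_true h

theorem label24 : ∀ i < 12, ∀ j < 12, presFi24.m i j = if i = j then 1 else if presFi24.m i j = 3 then 3 else 2 := by
  decide +kernel

theorem label24_zero : ∀ j < 12, j ≠ 0 → (presFi24.m 0 j = 3 ↔ j = 1) ∧ (presFi24.m j 0 = 3 ↔ j = 1) := by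
  decide +kernel

theorem label24_one : ∀ j < 12, 2 ≤ j → (presFi24.m 1 j = 3 ↔ j = 2) ∧ (presFi24.m j 1 = 3 ↔ j = 2) := by
  decide +kernel

theorem label24_old : ∀ i < 12, 2 ≤ i → ∀ j < 12, 2 ≤ j → presFi24.m i j = presFi23.m (i - 2) (j - 2) := by
  decide +kernel

namespace Model

variable (m : Model D)
include m

/-- The chosen last generator. -/
noncomputable def k : G := m.exists_third.choose

theorem k_spec : m.k ∈ D ∧ ¬ Commute m.k m.t ∧ Commute m.k m.T ∧ (∀ x < 9, (Commute m.k (m.N x) ↔ x ≠ 0)) ∧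
    Commute m.k (m.L (presFi23.σ 7)) := m.exists_third.choose_spec

/-- The twelve transpositions. -/
noncomputable def τ (x : ℕ) : G :=
  if x = 0 then m.t else if x = 1 then m.k else if x < 12 then m.L (presFi23.σ (x - 2)) else 1

theorem τ_zero : m.τ 0 = m.t := if_pos rfl

theorem τ_one : m.τ 1 = m.k := (if_neg one_ne_zero).trans (if_pos rfl)

theorem τ_old {x : ℕ} (h2 : 2 ≤ x) (hx : x < 12) : m.τ x = m.L (presFi23.σ (x - 2)) := by
  rw [τ, if_neg (by omega), if_neg (by omega), if_pos hx]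

theorem τ_out {x : ℕ} (hx : ¬ x < 12) : m.τ x = 1 := by
  rw [τ, if_neg (by omega), if_neg (by omega), if_neg hx]

theorem τ_mem {x : ℕ} (hx : x < 12) : m.τ x ∈ D := by
  rcases x with _ | _ | x
  · rw [m.τ_zero]; exact m.B.ht
  · rw [m.τ_one]; exact m.k_spec.1
  · rw [m.τ_old (by omega) hx]; exact m.L_mem (σ_mem23 (by omega))

theorem τ_sq (x : ℕ) : m.τ x * m.τ x = 1 := by
  by_cases hx : x < 12
  · exact mul_self m.cls.1 (m.τ_mem hx)
  · rw [m.τ_out hx, one_mul]

theorem k_old {x : ℕ} (h2 : 2 ≤ x) (hx : x < 12) : Commute m.k (m.τ x) ↔ x ≠ 2 := by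
  rw [m.τ_old h2 hx]
  by_cases h9 : x = 9
  · subst h9; exact iff_of_true m.k_spec.2.2.2.2 (by norm_num)
  · have hp : ∀ x < 12, 2 ≤ x → x ≠ 9 → ∃ y < 9, Fi23Class.emb y = x - 2 ∧ (y = 0 ↔ x = 2) := by decide
    obtain ⟨y, hy, e, e0⟩ := hp x hx h2 h9
    rw [← e]
    exact (m.k_spec.2.2.2.1 y hy).trans (not_congr e0)

theorem τ_commute {i j : ℕ} (hi : i < 12) (hj : j < 12) (hne : i ≠ j) :
    Commute (m.τ i) (m.τ j) ↔ presFi24.m i j ≠ 3 := by
  have zero : ∀ j < 12, j ≠ 0 → (Commute (m.τ 0) (m.τ j) ↔ j ≠ 1) := by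
    intro j hj h0
    rw [m.τ_zero]
    by_cases h1 : j = 1
    · subst h1; rw [m.τ_one]; exact iff_of_false (fun h => m.k_spec.2.1 h.symm) (fun h => h rfl)
    · rw [m.τ_old (by omega) hj]; exact iff_of_true (m.L_comm_t (σ_mem23 (by omega))) h1
  rcases i with _ | _ | i
  · exact (zero j hj (Ne.symm hne)).trans (not_congr (label24_zero j hj (Ne.symm hne)).1.symm)
  · rcases j with _ | _ | j
    · rw [Commute.symm_iff]
      exact (zero 1 hi one_ne_zero).trans (not_congr (label24_zero 1 hi one_ne_zero).2.symm)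
    · exact absurd rfl hne
    · rw [m.τ_one]
      exact (m.k_old (by omega) hj).trans (not_congr (label24_one _ hj (by omega)).1.symm)
  · rcases j with _ | _ | j
    · rw [Commute.symm_iff]
      exact (zero _ hi (by omega)).trans (not_congr (label24_zero _ hi (by omega)).2.symm)
    · rw [Commute.symm_iff, m.τ_one]
      exact (m.k_old (by omega) hi).trans (not_congr (label24_one _ hi (by omega)).2.symm)
    · rw [m.τ_old (by omega) hi, m.τ_old (by omega) hj,
        m.L_commute (σ_mem23 (by omega)) (σ_mem23 (by omega)), σ23_commute (by omega) (by omega) (by omega),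
        label24_old _ hi (by omega) _ hj (by omega)]

/-- The product of a word in the twelve transpositions. -/
noncomputable def P24 (w : List ℕ) : G := (w.map m.τ).prod

theorem relL_one : m.P24 relL = 1 := by
  have h : W23 (((List.replicate 9 e7Fi24).flatten).map (· - 2)) = 1 :=
    presFi23.rels_one (List.mem_append_right _ (show ((List.replicate 9 e7Fi24).flatten).map (· - 2) ∈ extraWFi23 by
      decide))
  have e : m.P24 ((List.replicate 9 e7Fi24).flatten) = m.t := by
    rw [← m.Lw_eq_t (w := ((List.replicate 9 e7Fi24).flatten).map (· - 2)) (by decide) (by decide) h, P24, Lw,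
      List.map_map]
    refine congrArg List.prod (List.map_congr_left fun x hx => ?_)
    have : ∀ x ∈ (List.replicate 9 e7Fi24).flatten, 2 ≤ x ∧ x < 12 := by decide
    exact m.τ_old (this x hx).1 (this x hx).2
  rw [P24] at e ⊢
  rw [relL, List.map_append, List.prod_append, prod_reverse_inv m.τ m.τ_sq, e, List.map_singleton,
    List.prod_singleton, m.τ_zero, mul_inv_cancel]

theorem rel_one {w : List ℕ} (hw : w ∈ presFi24.rels) (hz : w ≠ relZ) : m.P24 w = 1 := by
  rcases presFi24.mem_rels hw with ⟨i, hi, j, hj, rfl⟩ | hw'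
  · rw [P24, prod_coxWord, label24 i hi j hj]
    by_cases hij : i = j
    · rw [if_pos hij, hij, pow_one, m.τ_sq]
    rw [if_neg hij]
    by_cases h3 : presFi24.m i j = 3
    · rw [if_pos h3]
      exact pow_three m.cls.1 (m.τ_mem hi) (m.τ_mem hj) fun h => (m.τ_commute hi hj hij).mp h h3
    · rw [if_neg h3, ((m.τ_commute hi hj hij).mpr h3).mul_pow, pow_two, pow_two, m.τ_sq, m.τ_sq, one_mul]
  · change w ∈ [relL, relZ] at hw'
    rw [List.mem_cons, List.mem_singleton] at hw'
    rcases hw' with rfl | rfl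
    exacts [m.relL_one, absurd rfl hz]

/-- The letters of the generators of the centraliser. -/
def subL : List ℕ := [0, 2, 3, 4, 5, 6, 7, 8, 9, 10, 11]

theorem centralizer_gen :
    Subgroup.closure (m.τ '' {x | x ∈ subL}) = Subgroup.centralizer ({m.t} : Set G) := by
  set S := Subgroup.closure (m.τ '' {x | x ∈ subL}) with hS
  refine le_antisymm ((Subgroup.closure_le _).mpr ?_) ?_
  · rintro _ ⟨x, hx, rfl⟩
    have hx' : x = 0 ∨ (2 ≤ x ∧ x < 12) := by
      revert x
      simp only [subL, Set.mem_ofPred_eq, List.mem_cons, List.not_mem_nil, or_false]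
      omega
    rcases hx' with rfl | ⟨h2, hx'⟩
    · rw [m.τ_zero]; exact Subgroup.mem_centralizer_singleton_iff.mpr rfl
    · rw [m.τ_old h2 hx']
      exact Subgroup.mem_centralizer_singleton_iff.mpr (m.L_comm_t (σ_mem23 (by omega))).symm
  · rw [M24.centralizer_eq m.cls m.hp m.hZ m.B m.B.ht, Hs, Subgroup.closure_le]
    intro d hd
    obtain ⟨y, hy, rfl⟩ := m.L_surj hd
    have hgen : ∀ i < 10, m.L (presFi23.σ i) ∈ S := fun i hi => by
      refine Subgroup.subset_closure ⟨i + 2, ?_, by rw [m.τ_old (by omega) (by omega), Nat.add_sub_cancel]⟩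
      revert i
      decide
    have hall : ∀ g : presFi23.Grp, ∃ h ∈ S, m.Over h g := by
      intro g
      have hg : g ∈ Subgroup.closure (presFi23.σ '' Set.Iio presFi23.k) := by
        rw [presFi23.gen_closure]; exact Subgroup.mem_top g
      induction hg using Subgroup.closure_induction with
      | mem g hg =>
        obtain ⟨i, hi, rfl⟩ := hg
        exact ⟨_, hgen i hi, Subgroup.subset_closure (m.L_spec (σ_mem23 hi)).1, (m.L_spec (σ_mem23 hi)).2⟩
      | one => exact ⟨1, one_mem _, one_mem _, by rw [map_one]; exact m.one_bar⟩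
      | mul a b _ _ ha hb =>
        obtain ⟨p, hp, hp'⟩ := ha
        obtain ⟨q, hq, hq'⟩ := hb
        exact ⟨p * q, mul_mem hp hq, mul_mem hp'.1 hq'.1, by
          rw [bar_mul m.cls m.B hp'.1 hq'.1, hp'.2, hq'.2, map_mul]⟩
      | inv a _ ha =>
        obtain ⟨p, hp, hp'⟩ := ha
        refine ⟨p⁻¹, inv_mem hp, inv_mem hp'.1, ?_⟩
        rw [map_inv]
        refine eq_inv_of_mul_eq_one_left ?_
        rw [← hp'.2, ← bar_mul m.cls m.B (inv_mem hp'.1) hp'.1, inv_mul_cancel, m.one_bar]
    obtain ⟨g, hg⟩ := isConj_iff.mp (σ7_class.symm ▸ hy : y ∈ conjugatesOf (presFi23.σ 7))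
    obtain ⟨h, hh, hh'⟩ := hall g
    rw [SetLike.mem_coe, ← hg, ← m.L_conj hh' (σ_mem23 (by norm_num))]
    exact mul_mem (mul_mem hh (hgen 7 (by norm_num))) (inv_mem hh)

theorem gen_top : Subgroup.closure (m.τ '' Set.Iio 12) = ⊤ := by
  have hle : Subgroup.centralizer ({m.t} : Set G) ≤ Subgroup.closure (m.τ '' Set.Iio 12) := by
    rw [← m.centralizer_gen]
    refine Subgroup.closure_mono (Set.image_mono fun x hx => ?_)
    revert x
    simp only [subL, Set.mem_ofPred_eq, List.mem_cons, List.not_mem_nil, or_false, Set.mem_Iio]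
    omega
  refine (centralizer_maximal m.hp m.hG.2.1 m.B.ht hle).resolve_left fun e => m.k_spec.2.1 ?_
  have hk : m.k ∈ Subgroup.centralizer ({m.t} : Set G) :=
    e ▸ Subgroup.subset_closure ⟨1, show (1 : ℕ) < 12 by norm_num, m.τ_one⟩
  exact Subgroup.mem_centralizer_singleton_iff.mp hk

end Model

end CfsgThreeTrans.M24.Unique
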