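/-
A group of type M(24) is the presented group Fi24, and its class is that of the first generator.
-/
import Cfsg.Agent.Lib.ThreeTrans.M24.Unique.Gens
import Cfsg.Agent.Lib.CosetEnum.Fi24Table.Card
import Cfsg.Agent.Lib.CosetEnum.Fi24Table.Slice.Main

set_option autoImplicit false
set_option maxRecDepth 1000000
set_option linter.unusedSectionVars false

namespace CfsgThreeTrans.M24.Unique

open Cfsg CfsgLib CfsgLib.CosetEnum
open CfsgThreeTrans.M23 (Hs Qt qt Et bar bar_eq)

universe u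

variable {G : Type u} [Group G] [Finite G] {D : Set G}

theorem slice_rels : ∀ r ∈ Fi24Table.Slice.rels, r ∈ presFi24.rels ∧ r ≠ relZ := by decide +kernel

theorem slice_hw : ∀ r ∈ Fi24Table.Slice.hw, ∃ x ∈ Model.subL, r = [x] := by decide +kernel

theorem data_rels : ∀ i < 208, 12 ≤ i →
    presFi24.rels.getD (Fi24Table.rots.getD i (0, 0)).1 [] ≠ relZ := by decide +kernel

theorem data_hw : ∀ r ∈ Fi24Table.hw, (∃ x ∈ Model.subL, r = [x]) ∨ r = relZ := by decide +kernel

theorem relZ_rel : relZ ∈ presFi24.rels := List.mem_append_right _ (by simp [extraWFi24, relZ])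

namespace Model

variable (m : Model D)
include m

theorem P24_append (v w : List ℕ) : m.P24 (v ++ w) = m.P24 v * m.P24 w := by
  rw [P24, P24, P24, List.map_append, List.prod_append]

theorem P24_reverse (w : List ℕ) : m.P24 w.reverse = (m.P24 w)⁻¹ := prod_reverse_inv m.τ m.τ_sq w

theorem P24_rotate {r : List ℕ} (h : m.P24 r = 1) (n : ℕ) : m.P24 (r.rotate n) = 1 := by
  have h' : m.P24 (r.take (n % r.length)) * m.P24 (r.drop (n % r.length)) = 1 := by
    rw [← P24_append, List.take_append_drop, h]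
  rw [List.rotate_eq_drop_append_take_mod, P24_append]
  exact mul_eq_one_comm.mp h'

/-- The centraliser of the base transposition. -/
noncomputable abbrev C : Subgroup G := Subgroup.centralizer ({m.t} : Set G)

/-- The cosets as numbers. -/
noncomputable abbrev Ω : Type := Fin (Nat.card (G ⧸ m.C))

/-- The numbering of the cosets. -/
noncomputable def cos : G ⧸ m.C ≃ m.Ω := Finite.equivFin _

/-- The action of a letter. -/
noncomputable def act (x : ℕ) (v : m.Ω) : m.Ω := m.cos (m.τ x • m.cos.symm v)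

/-- The coset of the identity. -/
noncomputable def base : m.Ω := m.cos ((1 : G) : G ⧸ m.C)

theorem act_inv : ∀ x v, m.act x (m.act x v) = v := fun x v => by
  rw [act, act, Equiv.symm_apply_apply, smul_smul, m.τ_sq, one_smul, Equiv.apply_symm_apply]

theorem act_twelve : ∀ v, m.act 12 v = v := fun v => by
  rw [act, m.τ_out (lt_irrefl 12), one_smul, Equiv.apply_symm_apply]

theorem run_act : ∀ (w : List ℕ) (v : m.Ω), m.cos.symm (run m.act w v) = m.P24 w.reverse • m.cos.symm v := by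
  intro w
  induction w with
  | nil => intro v; simp [run, P24]
  | cons a w ih =>
    intro v
    rw [show run m.act (a :: w) v = run m.act w (m.act a v) from rfl, ih, act, Equiv.symm_apply_apply, smul_smul,
      List.reverse_cons, P24_append, show m.P24 [a] = m.τ a by simp [P24]]

theorem run_fix {w : List ℕ} : run m.act w m.base = m.base ↔ m.P24 w.reverse ∈ m.C := by
  rw [← m.cos.symm.injective.eq_iff, run_act, base, Equiv.symm_apply_apply, MulAction.Quotient.smul_coe,
    smul_eq_mul, mul_one, QuotientGroup.eq, mul_one, inv_mem_iff]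

theorem run_one {w : List ℕ} (h : m.P24 w = 1) (v : m.Ω) : run m.act w v = v :=
  m.cos.symm.injective (by rw [run_act, P24_reverse, h, inv_one, one_smul])

theorem sub_fix {x : ℕ} (hx : x ∈ subL) : run m.act [x] m.base = m.base := by
  rw [run_fix, show ([x] : List ℕ).reverse = [x] from rfl, show m.P24 [x] = m.τ x by simp [P24], C,
    ← m.centralizer_gen]
  exact Subgroup.subset_closure ⟨x, hx, rfl⟩

theorem slice_wh : ∀ w < Fi24Table.Slice.data.nh, run m.act (wordOf (Fi24Table.Slice.data.words.get w)) m.base = m.base := by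
  intro w hw
  have hn : w < Fi24Table.Slice.data.nw :=
    lt_of_lt_of_le hw (show Fi24Table.Slice.data.nh ≤ Fi24Table.Slice.data.nw by decide +kernel)
  have h := List.all_eq_true.mp Fi24Table.Slice.words_ok w (List.mem_range.mpr hn)
  rw [if_pos hw, beq_iff_eq] at h
  rw [h]
  by_cases hl : (Fi24Table.Slice.rots.getD w (0, 0)).1 < Fi24Table.Slice.hw.length
  · rw [List.getD_eq_getElem _ _ hl]
    obtain ⟨x, hx, e⟩ := slice_hw _ (List.getElem_mem hl)
    rw [e]
    exact m.sub_fix hx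
  · rw [List.getD_eq_default _ _ (not_lt.mp hl)]; rfl

theorem slice_wr : ∀ w, Fi24Table.Slice.data.nh ≤ w → w < Fi24Table.Slice.data.nw →
    ∀ v, run m.act (wordOf (Fi24Table.Slice.data.words.get w)) v = v := by
  intro w hw hw' v
  have h := List.all_eq_true.mp Fi24Table.Slice.words_ok w (List.mem_range.mpr hw')
  rw [if_neg (not_lt.mpr hw), beq_iff_eq] at h
  rw [h]
  refine m.run_one (m.P24_rotate ?_ _) v
  by_cases hl : (Fi24Table.Slice.rots.getD w (0, 0)).1 < Fi24Table.Slice.rels.length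
  · rw [List.getD_eq_getElem _ _ hl]
    exact m.rel_one (slice_rels _ (List.getElem_mem hl)).1 (slice_rels _ (List.getElem_mem hl)).2
  · rw [List.getD_eq_default _ _ (not_lt.mp hl)]; rfl

/-- The element to be shown trivial. -/
noncomputable def ζ : G := m.P24 relZ.reverse

theorem slice_facts : (∀ x ∈ subL, m.ζ * m.τ x * m.ζ ∈ m.C) ∧ m.ζ ^ 3 ∈ m.C := by
  have hk : ∀ v, m.act Fi24Table.Slice.data.k v = v := m.act_twelve
  have one : ∀ {x : ℕ} {tw : ℕ}, run m.act (wordOf tw) m.base = m.base → wordOf tw = relZ ++ [x] ++ relZ →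
      m.ζ * m.τ x * m.ζ ∈ m.C := by
    intro x tw h e
    rw [e, run_fix, List.reverse_append, List.reverse_append, P24_append, P24_append,
      show m.P24 [x].reverse = m.τ x by simp [P24], ← mul_assoc] at h
    exact h
  refine ⟨fun x hx => ?_, ?_⟩
  · simp only [subL, List.mem_cons, List.not_mem_nil, or_false] at hx
    rcases hx with rfl | rfl | rfl | rfl | rfl | rfl | rfl | rfl | rfl | rfl | rfl
    · exact one (Fi24Table.Slice.fix0 m.base m.act m.act_inv hk m.slice_wh m.slice_wr) (by decide +kernel)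
    · exact one (Fi24Table.Slice.fix1 m.base m.act m.act_inv hk m.slice_wh m.slice_wr) (by decide +kernel)
    · exact one (Fi24Table.Slice.fix2 m.base m.act m.act_inv hk m.slice_wh m.slice_wr) (by decide +kernel)
    · exact one (Fi24Table.Slice.fix3 m.base m.act m.act_inv hk m.slice_wh m.slice_wr) (by decide +kernel)
    · exact one (Fi24Table.Slice.fix4 m.base m.act m.act_inv hk m.slice_wh m.slice_wr) (by decide +kernel)
    · exact one (Fi24Table.Slice.fix5 m.base m.act m.act_inv hk m.slice_wh m.slice_wr) (by decide +kernel)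
    · exact one (Fi24Table.Slice.fix6 m.base m.act m.act_inv hk m.slice_wh m.slice_wr) (by decide +kernel)
    · exact one (Fi24Table.Slice.fix7 m.base m.act m.act_inv hk m.slice_wh m.slice_wr) (by decide +kernel)
    · exact one (Fi24Table.Slice.fix8 m.base m.act m.act_inv hk m.slice_wh m.slice_wr) (by decide +kernel)
    · exact one (Fi24Table.Slice.fix9 m.base m.act m.act_inv hk m.slice_wh m.slice_wr) (by decide +kernel)
    · exact one (Fi24Table.Slice.fix10 m.base m.act m.act_inv hk m.slice_wh m.slice_wr) (by decide +kernel)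
  · have h := Fi24Table.Slice.fix11 m.base m.act m.act_inv hk m.slice_wh m.slice_wr
    rw [show wordOf Fi24Table.Slice.tw11 = relZ ++ relZ ++ relZ by decide +kernel, run_fix, List.reverse_append,
      List.reverse_append, P24_append, P24_append, ← mul_assoc] at h
    rw [pow_succ, pow_two]
    exact h

/-- An element in the union of the three cosets. -/
def InY (g : G) : Prop := ∃ a ∈ m.C, g = a ∨ g = a * m.ζ ∨ g = a * m.ζ⁻¹

theorem ζ_swap {c : G} (hc : c ∈ m.C) : (∃ a ∈ m.C, m.ζ * c = a * m.ζ ∨ m.ζ * c = a * m.ζ⁻¹) ∧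
    (∃ a ∈ m.C, m.ζ⁻¹ * c = a * m.ζ ∨ m.ζ⁻¹ * c = a * m.ζ⁻¹) := by
  have hx : ∀ x ∈ subL, (∃ a ∈ m.C, m.ζ * m.τ x = a * m.ζ⁻¹) ∧ (∃ a ∈ m.C, m.ζ⁻¹ * m.τ x = a * m.ζ) := by
    intro x hx
    have h := m.slice_facts.1 x hx
    refine ⟨⟨_, h, by group⟩, ⟨_, inv_mem h, ?_⟩⟩
    rw [mul_inv_rev, mul_inv_rev, inv_eq_of_mul_eq_one_right (m.τ_sq x)]
    group
  rw [C, ← m.centralizer_gen] at hc
  induction hc using Subgroup.closure_induction_left with
  | one => exact ⟨⟨1, one_mem _, Or.inl (by group)⟩, ⟨1, one_mem _, Or.inr (by group)⟩⟩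
  | mul_left g hg y hy ih =>
    obtain ⟨x, hxs, rfl⟩ := hg
    obtain ⟨⟨a, ha, e⟩, ⟨b, hb, e'⟩⟩ := hx x hxs
    obtain ⟨⟨p, hp, ep⟩, ⟨q, hq, eq'⟩⟩ := ih
    constructor
    · refine ⟨a * q, mul_mem ha hq, ?_⟩
      rw [← mul_assoc m.ζ, e, mul_assoc a m.ζ⁻¹, mul_assoc a q, mul_assoc a q]
      rcases eq' with eq' | eq' <;> rw [eq'] <;> simp
    · refine ⟨b * p, mul_mem hb hp, ?_⟩
      rw [← mul_assoc m.ζ⁻¹, e', mul_assoc b m.ζ, mul_assoc b p, mul_assoc b p]
      rcases ep with ep | ep <;> rw [ep] <;> simp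
  | inv_mul_cancel g hg y hy ih =>
    obtain ⟨x, hxs, rfl⟩ := hg
    rw [inv_eq_of_mul_eq_one_right (m.τ_sq x)]
    obtain ⟨⟨a, ha, e⟩, ⟨b, hb, e'⟩⟩ := hx x hxs
    obtain ⟨⟨p, hp, ep⟩, ⟨q, hq, eq'⟩⟩ := ih
    constructor
    · refine ⟨a * q, mul_mem ha hq, ?_⟩
      rw [← mul_assoc m.ζ, e, mul_assoc a m.ζ⁻¹, mul_assoc a q, mul_assoc a q]
      rcases eq' with eq' | eq' <;> rw [eq'] <;> simp
    · refine ⟨b * p, mul_mem hb hp, ?_⟩
      rw [← mul_assoc m.ζ⁻¹, e', mul_assoc b m.ζ, mul_assoc b p, mul_assoc b p]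
      rcases ep with ep | ep <;> rw [ep] <;> simp

theorem Y_step {y : G} (hy : m.InY y) : m.InY (m.ζ * y) ∧ m.InY (m.ζ⁻¹ * y) := by
  have h3 := m.slice_facts.2
  have z2 : ∀ {a : G}, a ∈ m.C → m.InY (a * m.ζ * m.ζ) := fun {a} ha =>
    ⟨a * m.ζ ^ 3, mul_mem ha h3, Or.inr (Or.inr (by simp [pow_succ, mul_assoc]))⟩
  have z2' : ∀ {a : G}, a ∈ m.C → m.InY (a * m.ζ⁻¹ * m.ζ⁻¹) := fun {a} ha =>
    ⟨a * (m.ζ ^ 3)⁻¹, mul_mem ha (inv_mem h3), Or.inr (Or.inl (by group))⟩
  have z0 : ∀ {a : G}, a ∈ m.C → m.InY (a * m.ζ * m.ζ⁻¹) ∧ m.InY (a * m.ζ⁻¹ * m.ζ) := fun {a} ha =>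
    ⟨⟨a, ha, Or.inl (by group)⟩, ⟨a, ha, Or.inl (by group)⟩⟩
  obtain ⟨c, hc, e⟩ := hy
  obtain ⟨⟨p, hp, ep⟩, ⟨q, hq, eq'⟩⟩ := m.ζ_swap hc
  rcases e with rfl | rfl | rfl
  · refine ⟨?_, ?_⟩
    · rcases ep with e | e <;> exact ⟨p, hp, by simp [e]⟩
    · rcases eq' with e | e <;> exact ⟨q, hq, by simp [e]⟩
  · rw [← mul_assoc, ← mul_assoc]
    refine ⟨?_, ?_⟩
    · rcases ep with e | e <;> rw [e]
      exacts [z2 hp, (z0 hp).2]
    · rcases eq' with e | e <;> rw [e]
      exacts [z2 hq, (z0 hq).2]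
  · rw [← mul_assoc, ← mul_assoc]
    refine ⟨?_, ?_⟩
    · rcases ep with e | e <;> rw [e]
      exacts [(z0 hp).1, z2' hp]
    · rcases eq' with e | e <;> rw [e]
      exacts [(z0 hq).1, z2' hq]

theorem ζ_mem : m.ζ ∈ m.C := by
  classical
  set K := Subgroup.closure (insert m.ζ (m.C : Set G)) with hK
  have hle : m.C ≤ K := fun c hc => Subgroup.subset_closure (Set.mem_insert_of_mem _ hc)
  have hY : ∀ g ∈ K, m.InY g := by
    intro g hg
    induction hg using Subgroup.closure_induction_left with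
    | one => exact ⟨1, one_mem _, Or.inl rfl⟩
    | mul_left x hx y hy ih =>
      rcases Set.mem_insert_iff.mp hx with rfl | hx
      · exact (m.Y_step ih).1
      · obtain ⟨a, ha, e⟩ := ih
        exact ⟨x * a, mul_mem hx ha, by rcases e with rfl | rfl | rfl <;> simp [mul_assoc]⟩
    | inv_mul_cancel x hx y hy ih =>
      rcases Set.mem_insert_iff.mp hx with rfl | hx
      · exact (m.Y_step ih).2
      · obtain ⟨a, ha, e⟩ := ih
        exact ⟨x⁻¹ * a, mul_mem (inv_mem hx) ha, by rcases e with rfl | rfl | rfl <;> simp [mul_assoc]⟩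
  rcases centralizer_maximal m.hp m.hG.2.1 m.B.ht hle with h | h
  · rw [C, ← h]
    exact Subgroup.subset_closure (Set.mem_insert _ _)
  exfalso
  have hsub : D ⊆ ↑({m.t, m.ζ⁻¹ * m.t * m.ζ, m.ζ * m.t * m.ζ⁻¹} : Finset G) := by
    intro d hd
    obtain ⟨g, rfl⟩ := cls_exists_conj m.cls m.B.ht hd
    obtain ⟨a, ha, e⟩ := hY g⁻¹ (h ▸ Subgroup.mem_top _)
    have hac : a⁻¹ * m.t * a = m.t := by
      rw [mul_assoc, ← Subgroup.mem_centralizer_singleton_iff.mp ha, inv_mul_cancel_left]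
    rw [← inv_inv g]
    simp only [Finset.coe_insert, Finset.coe_singleton, Set.mem_insert_iff, Set.mem_singleton_iff]
    rcases e with e | e | e <;> rw [e]
    · left; rw [inv_inv]; exact hac
    · right; left
      calc (a * m.ζ)⁻¹ * m.t * (a * m.ζ)⁻¹⁻¹ = m.ζ⁻¹ * (a⁻¹ * m.t * a) * m.ζ := by group
        _ = _ := by rw [hac]
    · right; right
      calc (a * m.ζ⁻¹)⁻¹ * m.t * (a * m.ζ⁻¹)⁻¹⁻¹ = m.ζ * (a⁻¹ * m.t * a) * m.ζ⁻¹ := by group
        _ = _ := by rw [hac]
  have h1 := Set.ncard_le_ncard hsub (Finset.finite_toSet _)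
  rw [(M24.params m.cls m.hp m.B).1, Set.ncard_coe_finset] at h1
  have h2 : ({m.t, m.ζ⁻¹ * m.t * m.ζ, m.ζ * m.t * m.ζ⁻¹} : Finset G).card ≤ 3 := Finset.card_le_three
  omega

theorem rows : ∀ d < Fi24Table.table.n, RowOK Fi24Table.data Fi24Table.table m.base m.act d := by
  refine Fi24Table.facts_ok m.base m.act m.act_inv m.act_twelve (fun w hw => ?_) fun w hw hw' v => ?_
  · have hn : w < Fi24Table.data.nw :=
      lt_of_lt_of_le hw (show Fi24Table.data.nh ≤ Fi24Table.data.nw by decide +kernel)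
    have h := List.all_eq_true.mp Fi24Table.words_ok w (List.mem_range.mpr hn)
    rw [if_pos hw, beq_iff_eq] at h
    rw [h]
    by_cases hl : (Fi24Table.rots.getD w (0, 0)).1 < Fi24Table.hw.length
    · rw [List.getD_eq_getElem _ _ hl]
      rcases data_hw _ (List.getElem_mem hl) with ⟨x, hx, e⟩ | e <;> rw [e]
      · exact m.sub_fix hx
      · rw [run_fix]; exact m.ζ_mem
    · rw [List.getD_eq_default _ _ (not_lt.mp hl)]; rfl
  · have h := List.all_eq_true.mp Fi24Table.words_ok w (List.mem_range.mpr hw')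
    rw [if_neg (not_lt.mpr hw), beq_iff_eq] at h
    rw [h]
    refine m.run_one (m.P24_rotate ?_ _) v
    have hne := data_rels w hw' hw
    by_cases hl : (Fi24Table.rots.getD w (0, 0)).1 < presFi24.rels.length
    · rw [List.getD_eq_getElem _ _ hl] at hne ⊢
      exact m.rel_one (List.getElem_mem hl) hne
    · rw [List.getD_eq_default _ _ (not_lt.mp hl)]; rfl

/-- The coset of a point. -/
noncomputable def pnt (d : ℕ) : m.Ω := Fi24Table.table.point Fi24Table.data m.base m.act d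

theorem run_pnt : ∀ (w : List ℕ), (∀ x ∈ w, x < 12) → ∀ d < Fi24Table.table.n,
    run (fun x e => Fi24Table.table.act 12 e x) w d < Fi24Table.table.n ∧
      run m.act w (m.pnt d) = m.pnt (run (fun x e => Fi24Table.table.act 12 e x) w d) := by
  intro w
  induction w with
  | nil => intro _ d hd; exact ⟨hd, rfl⟩
  | cons a w ih =>
    intro hw d hd
    obtain ⟨h1, h2⟩ := m.rows d hd a (hw a (List.mem_cons_self ..))
    have h3 := ih (fun x hx => hw x (List.mem_cons_of_mem _ hx)) _ h1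
    refine ⟨h3.1, ?_⟩
    show run m.act w (m.act a (m.pnt d)) = _
    rw [show m.act a (m.pnt d) = m.pnt (Fi24Table.table.act 12 d a) from h2]
    exact h3.2

theorem pnt_surj (v : m.Ω) : ∃ d < Fi24Table.table.n, m.pnt d = v := by
  have hall : ∀ g : G, ∀ d < Fi24Table.table.n, ∃ d' < Fi24Table.table.n,
      m.cos.symm (m.pnt d') = g • m.cos.symm (m.pnt d) := by
    intro g
    have hg : g ∈ Subgroup.closure (m.τ '' Set.Iio 12) := m.gen_top ▸ Subgroup.mem_top g
    have step : ∀ x < 12, ∀ d < Fi24Table.table.n, ∃ d' < Fi24Table.table.n,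
        m.cos.symm (m.pnt d') = m.τ x • m.cos.symm (m.pnt d) := fun x hx d hd => by
      obtain ⟨h1, h2⟩ := m.rows d hd x hx
      refine ⟨_, h1, ?_⟩
      rw [show m.pnt (Fi24Table.table.act Fi24Table.data.k d x) = m.act x (m.pnt d) from h2.symm, act,
        Equiv.symm_apply_apply]
    induction hg using Subgroup.closure_induction_left with
    | one => exact fun d hd => ⟨d, hd, (one_smul _ _).symm⟩
    | mul_left x hx y hy ih =>
      obtain ⟨i, hi, rfl⟩ := hx
      intro d hd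
      obtain ⟨d', hd', e⟩ := ih d hd
      obtain ⟨d'', hd'', e'⟩ := step i hi d' hd'
      exact ⟨d'', hd'', by rw [e', e, mul_smul]⟩
    | inv_mul_cancel x hx y hy ih =>
      obtain ⟨i, hi, rfl⟩ := hx
      rw [inv_eq_of_mul_eq_one_right (m.τ_sq i)]
      intro d hd
      obtain ⟨d', hd', e⟩ := ih d hd
      obtain ⟨d'', hd'', e'⟩ := step i hi d' hd'
      exact ⟨d'', hd'', by rw [e', e, mul_smul]⟩
  obtain ⟨g, hg⟩ := QuotientGroup.mk_surjective (m.cos.symm v)
  obtain ⟨d, hd, e⟩ := hall g 0 Fi24Table.cert.hn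
  refine ⟨d, hd, m.cos.symm.injective ?_⟩
  have h0 : m.pnt 0 = m.base := by
    show Fi24Table.data.val _ _ (Fi24Table.table.repr 0) = _
    rw [show Fi24Table.table.repr 0 = 0 from Fi24Table.cert.hrep, Data.val, if_pos rfl]
  rw [e, h0, base, Equiv.symm_apply_apply, MulAction.Quotient.smul_coe, smul_eq_mul, mul_one, hg]

theorem ζ_one : m.ζ = 1 := by
  have hc : ∀ g : G, g⁻¹ * m.ζ * g ∈ m.C := by
    intro g
    obtain ⟨d, hd, e⟩ := m.pnt_surj (m.cos (g : G ⧸ m.C))
    have hlt : ∀ x ∈ relZ, x < 12 := by decide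
    have h := (m.run_pnt relZ hlt d hd).2
    rw [Fi24Table.rels_fix relZ_rel d hd, e] at h
    have h' := congrArg m.cos.symm h
    rw [run_act, Equiv.symm_apply_apply, MulAction.Quotient.smul_coe, smul_eq_mul, eq_comm, QuotientGroup.eq,
      ← mul_assoc] at h'
    exact h'
  have hz : m.ζ ∈ Subgroup.center G := by
    rw [Subgroup.mem_center_iff]
    intro y
    have hy : y ∈ Subgroup.closure D := m.cls.2.2 ▸ Subgroup.mem_top y
    induction hy using Subgroup.closure_induction with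
    | mem d hd =>
      obtain ⟨g, rfl⟩ := cls_exists_conj m.cls m.B.ht hd
      have h := (Subgroup.mem_centralizer_singleton_iff.mp (hc g))
      calc g * m.t * g⁻¹ * m.ζ = g * (m.t * (g⁻¹ * m.ζ * g)) * g⁻¹ := by group
        _ = g * (g⁻¹ * m.ζ * g * m.t) * g⁻¹ := by rw [h]
        _ = m.ζ * (g * m.t * g⁻¹) := by group
    | one => simp
    | mul a b _ _ ha hb => rw [mul_assoc, hb, ← mul_assoc, ha, mul_assoc]
    | inv a _ ha => exact (Commute.inv_left ha).eq
  rw [m.hZ] at hz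
  exact Subgroup.mem_bot.mp hz

theorem rels_all : ∀ w ∈ presFi24.rels, (w.map m.τ).prod = 1 := by
  intro w hw
  by_cases hz : w = relZ
  · subst hz
    have h := m.ζ_one
    rw [ζ, P24_reverse, inv_eq_one] at h
    exact h
  · exact m.rel_one hw hz

/-- **The presented group is the group.** -/
theorem exists_iso24 : ∃ e : presFi24.Grp ≃* G, e '' conjugatesOf (presFi24.σ 0) = D := by
  obtain ⟨f, hf⟩ := presFi24.exists_hom m.τ m.τ_sq m.rels_all hidFi24
  have hsurj : Function.Surjective f := by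
    rw [← MonoidHom.range_eq_top, eq_top_iff, ← m.gen_top, Subgroup.closure_le]
    rintro _ ⟨x, hx, rfl⟩
    exact ⟨presFi24.σ x, hf x hx⟩
  haveI : Finite presFi24.Grp :=
    Nat.finite_of_card_ne_zero (by rw [Fi24Table.card_grp]; norm_num)
  have hcard : Nat.card presFi24.Grp = Nat.card G := by
    rw [Fi24Table.card_grp, M24.card_group m.hG m.hp m.hZ m.B]
  let e : presFi24.Grp ≃* G :=
    MulEquiv.ofBijective f ((Nat.bijective_iff_surjective_and_card f).mpr ⟨hsurj, hcard⟩)
  have he : e (presFi24.σ 0) = m.t := (hf 0 (by norm_num)).trans m.τ_zero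
  refine ⟨e, Set.ext fun d => ⟨?_, fun hd => ?_⟩⟩
  · rintro ⟨x, hx, rfl⟩
    obtain ⟨u, rfl⟩ := isConj_iff.mp hx
    rw [map_mul, map_mul, map_inv, he]
    exact cls_conj m.cls _ m.B.ht
  · obtain ⟨g, rfl⟩ := cls_exists_conj m.cls m.B.ht hd
    refine ⟨e.symm g * presFi24.σ 0 * (e.symm g)⁻¹, isConj_iff.mpr ⟨_, rfl⟩, ?_⟩
    rw [map_mul, map_mul, map_inv, he, e.apply_symm_apply]

end Model

end CfsgThreeTrans.M24.Unique
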